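import Groth.Agent.AlgSpB.IdealApprox.AffineThick
import Groth.Agent.AlgSp.JshriekEquiv
import Groth.Agent.S10583
import Mathlib.AlgebraicGeometry.Morphisms.FlatDescent

/-!
# A thickening of a scheme is a scheme
-/

universe u

open CategoryTheory CategoryTheory.Limits AlgebraicGeometry TopologicalSpace

set_option backward.isDefEq.respectTransparency false
set_option backward.isDefEq.respectTransparency.types false
set_option autoImplicit false
set_option maxHeartbeats 1000000

namespace Groth.Agent.AlgSpB.IdealApprox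

open _root_.AlgSp
open Groth.Agent.AlgSp

variable {S : Scheme.{u}}

/-- An algebraic space over any scheme with a surjective closed immersion from an affine scheme is an affine
scheme. -/
theorem exists_affine_of_thick' (X : Space S) {T₀ : Over S} [IsAffine T₀.left] (i : (yon S).obj T₀ ⟶ X.obj)
    (hi : RepWith @IsClosedImmersion i) (his : RepWith @Surjective i) :
    ∃ T : Over S, IsAffine T.left ∧ Nonempty ((yon S).obj T ≅ X.obj) := by
  let g : S ⟶ ⊤_ Scheme.{u} := terminal.from S
  let X' : Space (⊤_ Scheme.{u}) := ⟨(Jshriek.jlow g).obj X.obj, Jshriek.isAlgSpace_jlow g X.property⟩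
  have : IsIso (Jshriek.tilde g (𝟙 ((yon S).obj T₀))) := Jshriek.isIso_tilde_id g T₀
  let i' : (yon _).obj ((Over.map g).obj T₀) ⟶ X'.obj := Jshriek.tilde g (𝟙 _) ≫ (Jshriek.jlow g).map i
  have : IsAffine ((Over.map g).obj T₀).left := inferInstanceAs (IsAffine T₀.left)
  have hi' : RepWith @IsClosedImmersion i' :=
    (MorphismProperty.cancel_left_of_respectsIso _ _ _).2 ((Jshriek.repWith_jlow_map_iff g X.property i _).2 hi)
  have his' : RepWith @Surjective i' :=
    (MorphismProperty.cancel_left_of_respectsIso _ _ _).2 ((Jshriek.repWith_jlow_map_iff g X.property i _).2 his)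
  obtain ⟨T', hT', ⟨e⟩⟩ := exists_affine_of_thick (X := X') i' hi' his'
  obtain ⟨a, ha⟩ := (yon _).map_surjective (e.hom ≫ Jshriek.aF g X.obj)
  let W : Over S := Over.mk a.left
  let eW : (Over.map g).obj W ≅ T' := Over.isoMk (Iso.refl _) (by
    change 𝟙 _ ≫ T'.hom = a.left ≫ g
    rw [Category.id_comp]
    exact (Over.w a).symm)
  have : IsIso (Jshriek.tilde g (𝟙 ((yon S).obj W))) := Jshriek.isIso_tilde_id g W
  let E : (Jshriek.jlow g).obj ((yon S).obj W) ≅ (Jshriek.jlow g).obj X.obj :=
    (asIso (Jshriek.tilde g (𝟙 ((yon S).obj W)))).symm ≪≫ (yon _).mapIso eW ≪≫ e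
  have hE : E.hom ≫ Jshriek.aF g X.obj = Jshriek.aF g ((yon S).obj W) := by
    simp only [E, Iso.trans_hom, Iso.symm_hom, asIso_inv, Category.assoc, Functor.mapIso_hom, ← ha,
      IsIso.inv_comp_eq, Jshriek.tilde_aF, ← Functor.map_comp]
    congr 1
  have hE' : E.inv ≫ Jshriek.aF g ((yon S).obj W) = Jshriek.aF g X.obj := by rw [← hE, Iso.inv_hom_id_assoc]
  obtain ⟨f, hf⟩ := Jshriek.exists_map_eq_of_over g (IsAlgSpace.yon_obj W) X.property E.hom hE
  obtain ⟨f', hf'⟩ := Jshriek.exists_map_eq_of_over g X.property (IsAlgSpace.yon_obj W) E.inv hE'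
  exact ⟨W, inferInstanceAs (IsAffine T'.left), ⟨⟨f, f',
    Jshriek.map_injective_jlow g (IsAlgSpace.yon_obj W) (by rw [Functor.map_comp, hf, hf', Iso.hom_inv_id, CategoryTheory.Functor.map_id]),
    Jshriek.map_injective_jlow g X.property (by rw [Functor.map_comp, hf', hf, Iso.inv_hom_id, CategoryTheory.Functor.map_id])⟩⟩⟩

/-- A thickening of a scheme is a scheme. -/
theorem exists_iso_yon_of_thick {X X' : Space S} (i : X ⟶ X') (hi : IsThickMor i.hom) {T : Over S}
    (e : (yon S).obj T ≅ X.obj) : ∃ T' : Over S, Nonempty ((yon S).obj T' ≅ X'.obj) := by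
  have key : ∀ y : T.left, ∃ (V : Over S) (k : (yon S).obj V ⟶ X'.obj), RepWith @IsOpenImmersion k ∧
      Points.map i.hom (Points.ofPt e.hom y) ∈ Set.range (Points.map k) := by
    intro y
    obtain ⟨O, hO, hy, -⟩ := exists_isAffineOpen_mem_and_subset (x := y) (U := ⊤) trivial
    let o : Over.mk (O.ι ≫ T.hom) ⟶ T := Over.homMk O.ι rfl
    let U : Space S := ⟨(yon S).obj (Over.mk (O.ι ≫ T.hom)), IsAlgSpace.yon_obj _⟩
    let u : U ⟶ X := ObjectProperty.homMk ((yon S).map o ≫ e.hom)
    have hu : RepWith @IsOpenImmersion u.hom := (MorphismProperty.cancel_right_of_respectsIso _ _ _).2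
      ((repWith_yon_map_iff _ _).2 (inferInstanceAs (IsOpenImmersion O.ι)))
    obtain ⟨⟨U', u', k, hu', sq⟩, -⟩ := Groth.Agent.S10583.result i hi u hu
    have sq' : IsPullback u.hom k.hom i.hom u'.hom := sq
    have : IsAffine (Over.mk (O.ι ≫ T.hom)).left := hO
    obtain ⟨V, -, ⟨eV⟩⟩ := exists_affine_of_thick' U' k.hom
      (MorphismProperty.of_isPullback (P := RepWith @IsClosedImmersion) sq' (repWith_mono (fun _ h => h.1) hi))
      (MorphismProperty.of_isPullback (P := RepWith @Surjective) sq' (repWith_mono (fun _ h => h.2) hi))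
    refine ⟨V, eV.hom ≫ u'.hom, (MorphismProperty.cancel_left_of_respectsIso _ _ _).2 hu',
      Points.map eV.inv (Points.map k.hom (Points.ofScheme _ ⟨y, hy⟩)), ?_⟩
    rw [← Points.map_comp, ← Points.map_comp, Iso.inv_hom_id_assoc, ← sq'.w, Points.map_comp]
    congr 1
    rw [show u.hom = (yon S).map o ≫ e.hom from rfl, ← Points.ofPt_eq_map_ofScheme]
    exact AlgSpB.ofPt_map_comp o e.hom ⟨y, hy⟩
  choose V k hk hy using key
  obtain ⟨Y, hY⟩ := AlgSpB.exists_iso_yon_of_openCover X'.property (ι := T.left) V k hk fun x => by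
    obtain ⟨z, rfl⟩ := (Groth.Agent.AlgSpCov.ThickTopo.isHomeomorph_map X.property X'.property hi).surjective x
    refine ⟨Points.toScheme T (Points.map e.inv z), ?_⟩
    have := hy (Points.toScheme T (Points.map e.inv z))
    rwa [Points.ofPt_eq_map_ofScheme, Points.ofScheme_toScheme, ← Points.map_comp e.inv e.hom,
      Iso.inv_hom_id, Points.map_id] at this
  exact ⟨Y, hY⟩

end Groth.Agent.AlgSpB.IdealApprox
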