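import Groth.Agent.AlgSpB.IdealApprox.Step
import Groth.Agent.AlgSpB.Art.ClosedChain
import Groth.Agent.AlgSp.InfDescent
import Groth.Agent.AlgSpCov.Instances

/-!
# Closed subspaces are intersections of closed subspaces of finite presentation
-/

universe u

open CategoryTheory CategoryTheory.Limits AlgebraicGeometry TopologicalSpace Opposite

set_option backward.isDefEq.respectTransparency false
set_option backward.isDefEq.respectTransparency.types false
set_option autoImplicit false
set_option maxHeartbeats 1000000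

namespace Groth.Agent.AlgSpB.IdealApprox

open _root_.AlgSp
open Groth.Agent.AlgSp.CartierDesc (subOver subι exists_ideal comap_eq)
open Groth.Agent.IdealSh.Extend

variable {S : Scheme.{u}} [QuasiSeparatedSpace ↥S] {Y : Space S} {U R : Over S} [IsAffine U.left]
  {p : (yon S).obj U ⟶ Y.obj} {t s : R ⟶ U}

omit [QuasiSeparatedSpace ↥S] in
/-- An empty set of sections is finitely generated. -/
theorem fgOn_bot (I : U.left.IdealSheafData) : FGOn I ⊥ := fun T hT => by
  have : IsEmpty T.1.toScheme := ⟨fun x => hT x.2⟩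
  have : Subsingleton Γ(U.left, T.1) := by
    obtain rfl : T = ⟨⊥, isAffineOpen_bot _⟩ := Subtype.ext (le_bot_iff.1 hT)
    exact CommRingCat.subsingleton_of_isTerminal (U.left.sheaf.isTerminalOfEmpty)
  exact ⟨∅, Subsingleton.elim _ _⟩

/-- An invariant ideal contains invariant ideals of finite type containing any given finite type ideal. -/
theorem exists_fg_invariant (hqc : IsQuasiCompactSp Y.obj) (hqs : IsQuasiSeparatedSp Y.obj)
    (hp : RepWith @Etale p) (hps : RepWith @Surjective p) (sq : IsPullback ((yon S).map t) ((yon S).map s) p p)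
    {K : U.left.IdealSheafData} (hK : ∀ T, (K.ideal T).FG) {I : U.left.IdealSheafData}
    (hI : I.comap t.left = I.comap s.left) (hKI : K ≤ I) :
    ∃ J : U.left.IdealSheafData, (∀ T, (J.ideal T).FG) ∧ K ≤ J ∧ J ≤ I ∧ J.comap t.left = J.comap s.left := by
  let Q : Set (Points Y.obj) → Prop := fun A => ∀ hA : IsOpen A,
    ∃ J : U.left.IdealSheafData, K ≤ J ∧ J ≤ I ∧ J.comap t.left = J.comap s.left ∧
      FGOn J ⟨Points.ofPt p ⁻¹' A, hA.preimage (Points.continuous_ofPt p)⟩
  have hQ : Q Set.univ := by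
    refine AlgSpEN.openInduction Y hqc hqs ∅ isOpen_empty isCompact_empty Q (fun hA => ⟨I, hKI, le_rfl, hI,
      fgOn_mono (W := ⊥) (fun x hx => hx) (fgOn_bot I)⟩) ?_
    intro A V f hAo hAc _ hV hf hinj hQA hA'
    obtain ⟨J, hKJ, hJI, hJ, hfg⟩ := hQA hAo
    obtain ⟨J', h1, h2, h3, h4⟩ := step hqs hp hps sq f hf ⟨A, hAo⟩ hAc hinj hK hJ hKJ hfg
    exact ⟨J', h1, h2.trans hJI, h3, h4⟩
  obtain ⟨J, h1, h2, h3, h4⟩ := hQ isOpen_univ
  exact ⟨J, fun T => h4 T fun _ _ => trivial, h1, h2, h3⟩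

/-- The invariant ideals of finite type below a given ideal. -/
def Idx (t s : R ⟶ U) (I : U.left.IdealSheafData) : Type u :=
  {J : U.left.IdealSheafData // (∀ T, (J.ideal T).FG) ∧ J ≤ I ∧ J.comap t.left = J.comap s.left}

noncomputable instance (I : U.left.IdealSheafData) : Preorder (Idx t s I) :=
  inferInstanceAs (Preorder (Subtype _))

instance (I : U.left.IdealSheafData) : Nonempty (Idx t s I) :=
  ⟨⟨⊥, fun T => by rw [Scheme.IdealSheafData.ideal_bot]; exact Submodule.fg_bot, bot_le, by simp⟩⟩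

instance (I : U.left.IdealSheafData) : IsDirectedOrder (Idx t s I) :=
  ⟨fun a b => ⟨⟨a.1 ⊔ b.1, fun T => by
    rw [Scheme.IdealSheafData.ideal_sup]
    exact Submodule.FG.sup (a.2.1 T) (b.2.1 T), sup_le a.2.2.1 b.2.2.1, by
    rw [Scheme.IdealSheafData.comap_sup, Scheme.IdealSheafData.comap_sup, a.2.2.2, b.2.2.2]⟩,
    (le_sup_left : a.1 ≤ a.1 ⊔ b.1), (le_sup_right : b.1 ≤ a.1 ⊔ b.1)⟩⟩

/-- An invariant ideal is the union of the invariant ideals of finite type below it. -/
theorem iSup_idx_eq (hqc : IsQuasiCompactSp Y.obj) (hqs : IsQuasiSeparatedSp Y.obj)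
    (hp : RepWith @Etale p) (hps : RepWith @Surjective p) (sq : IsPullback ((yon S).map t) ((yon S).map s) p p)
    {I : U.left.IdealSheafData} (hI : I.comap t.left = I.comap s.left) :
    ⨆ j : Idx t s I, j.1 = I := by
  refine le_antisymm (iSup_le fun j => j.2.2.1) ?_
  obtain ⟨ι, _, _, _, G, hG, hGsup⟩ := LimLib.exists_iSup_fg_eq I
  conv_lhs => rw [← hGsup]
  refine iSup_le fun a => ?_
  obtain ⟨J, h1, h2, h3, h4⟩ := exists_fg_invariant hqc hqs hp hps sq (hG a) hI
    (hGsup ▸ le_iSup (fun j => G j) a)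
  exact h2.trans (le_iSup (fun j : Idx t s I => j.1) ⟨J, h1, h3, h4⟩)

omit [QuasiSeparatedSpace ↥S] [IsAffine U.left] in
/-- A closed immersion with ideal of finite type on an atlas is of finite presentation. -/
theorem isFinitePresentationMor_of_fg (hp : RepWith @Etale p) (hps : RepWith @Surjective p) {Z : Sp S}
    {i : Z ⟶ Y.obj} (hi : RepWith @IsClosedImmersion i) {J : U.left.IdealSheafData}
    {fst : (yon S).obj (subOver U J) ⟶ Z} (sq : IsPullback fst ((yon S).map (subι U J)) i p)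
    (hJ : ∀ T, (J.ideal T).FG) : IsFinitePresentationMor i := by
  have : Mono i := AlgSpB.mono_of_isClosedImmersion hi
  have : LocallyOfFinitePresentation (subι U J).left := (LimLib.lfp_subschemeι_iff J).2 hJ
  have hl : RepWith @LocallyOfFinitePresentation i :=
    Groth.Agent.AlgSp.InfDescent.repWith_of_baseChange @LocallyOfFinitePresentation hi.1 hp hps sq ((repWith_yon_map_iff _ _).2 this)
  refine ⟨Groth.Agent.AlgSpCov.locP_of_repWith Groth.Agent.AlgSpCov.etaleLocal_locallyOfFinitePresentation hl,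
    Groth.Agent.AlgSp.isQuasiCompactMor_of_repWith Y.property (Groth.Agent.AlgSp.repWith_mono
      (fun g (hg : IsClosedImmersion g) => (inferInstance : QuasiCompact g)) hi), ?_⟩
  have : IsIso (pullback.diagonal i) := (pullback.isIso_diagonal_iff i).2 inferInstance
  exact MorphismProperty.of_isIso (P := RepWith @QuasiCompact) _

/-- A closed subspace of a quasi-compact quasi-separated space is a limit of closed subspaces of finite
presentation. -/
theorem exists_limit (hqc : IsQuasiCompactSp Y.obj) (hqs : IsQuasiSeparatedSp Y.obj) {X : Sp S} (f : X ⟶ Y.obj)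
    (hf : RepWith @IsClosedImmersion f) :
    ∃ (I : Type u) (_ : Preorder I) (_ : IsDirected I (fun a b => a ≤ b)) (_ : Nonempty I) (D : Iᵒᵖ ⥤ Sp S)
      (t : D ⟶ (Functor.const Iᵒᵖ).obj Y.obj) (c : Cone D) (_ : IsLimit c) (e : c.pt ≅ X),
      (∀ i, IsAlgSpace (D.obj i)) ∧ (∀ (i j : Iᵒᵖ) (φ : i ⟶ j), RepWith @IsClosedImmersion (D.map φ)) ∧
      (∀ i, RepWith @IsClosedImmersion (t.app i) ∧ IsFinitePresentationMor (t.app i)) ∧
      (∀ i, e.inv ≫ c.π.app i ≫ t.app i = f) := by
  obtain ⟨U, p, hU, hp, hps⟩ := AlgSpEN.exists_affine_atlas Y hqc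
  have := hU
  obtain ⟨R, t, s, sq⟩ := Groth.Agent.AlgSp.exists_isPullback_yon Y.property.diag p p
  obtain ⟨I, fstI, sqI⟩ := exists_ideal hf p
  have hI : I.comap t.left = I.comap s.left := Groth.Agent.AlgSp.ClosedSub.comap_eq_comap hf sq.w sqI
  have : Mono f := AlgSpB.mono_of_isClosedImmersion hf
  let ι := Idx t s I
  choose Z i fst hZ hi sqZ using fun j : ι => Groth.Agent.AlgSp.ClosedSub.exists_closed hp hps sq j.1 j.2.2.2
  have hmono := fun j => AlgSpB.mono_of_isClosedImmersion (hi j)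
  have hle : ∀ {a b : ι}, a ≤ b → ∃ k : Z b ⟶ Z a, k ≫ i a = i b := fun {a b} h =>
    (Groth.Agent.AlgSp.ClosedSub.exists_le_iff (hi a) hp hps (sqZ b) (sqZ a)).2 h
  choose k hk using @hle
  let D : ιᵒᵖ ⥤ Sp S :=
    { obj := fun a => Z a.unop
      map := fun {a b} φ => k (leOfHom φ.unop)
      map_id := fun a => (cancel_mono (i a.unop)).1 (by rw [hk, Category.id_comp])
      map_comp := fun {a b c} φ ψ => (cancel_mono (i c.unop)).1 (by rw [hk, Category.assoc, hk, hk]) }
  have hcl : ∀ {a b : ιᵒᵖ} (φ : a ⟶ b), RepWith @IsClosedImmersion (D.map φ) := fun {a b} φ =>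
    MorphismProperty.of_isPullback
      (AlgSpEN.isPullback_of_mono_lift (D.map φ) (i b.unop) (i a.unop) (hk _)) (hi a.unop)
  have hfac : ∀ j : ι, ∃ m : X ⟶ Z j, m ≫ i j = f := fun j =>
    (Groth.Agent.AlgSp.ClosedSub.exists_le_iff (hi j) hp hps sqI (sqZ j)).2 j.2.2.1
  choose π hπ using hfac
  let c : Cone D :=
    { pt := X
      π := { app := fun a => π a.unop
             naturality := fun a b φ => (cancel_mono (i b.unop)).1 (by
              change (𝟙 X ≫ π b.unop) ≫ i b.unop = (π a.unop ≫ k _) ≫ i b.unop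
              rw [Category.id_comp, Category.assoc, hk, hπ, hπ]) } }
  have huniv : ∀ (T : Over S) (g : (yon S).obj T ⟶ Y.obj), (∀ j : ι, ∃ y, y ≫ i j = g) → ∃ y, y ≫ f = g := by
    intro T g hg
    obtain ⟨W, m, q, sqW⟩ := AlgSpB.exists_pullback_yon hp.1 g
    have hqe : RepWith @Etale ((yon S).map q) := MorphismProperty.of_isPullback sqW hp
    have hqs' : RepWith @Surjective ((yon S).map q) := MorphismProperty.of_isPullback sqW hps
    rw [Groth.Agent.AlgSp.ClosedSub.exists_factor_iff hf sqI g ((yon S).map q) hqe hqs' m sqW.w.symm,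
      ← iSup_idx_eq hqc hqs hp hps sq hI]
    exact iSup_le fun j => (Groth.Agent.AlgSp.ClosedSub.exists_factor_iff (hi j) (sqZ j) g ((yon S).map q) hqe hqs'
      m sqW.w.symm).1 (hg j)
  have hlift : ∀ c' : Cone D, ∃ l : c'.pt ⟶ X, ∀ j : ι, l ≫ π j = c'.π.app (op j) := by
    intro c'
    obtain ⟨j₀⟩ := (inferInstance : Nonempty ι)
    have heq : ∀ j : ι, c'.π.app (op j) ≫ i j = c'.π.app (op j₀) ≫ i j₀ := by
      intro j
      obtain ⟨m, h1, h2⟩ := exists_ge_ge j j₀
      rw [← c'.w (homOfLE h1).op, ← c'.w (homOfLE h2).op, Category.assoc, Category.assoc]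
      change c'.π.app _ ≫ k _ ≫ i j = c'.π.app _ ≫ k _ ≫ i j₀
      rw [hk, hk]
    obtain ⟨l, hl⟩ := Groth.Agent.AlgSpB.Art.exists_factor_of_yon (i := f) (c'.π.app (op j₀) ≫ i j₀)
      fun T g => huniv T _ fun j => ⟨g ≫ c'.π.app (op j), by rw [Category.assoc, heq]⟩
    exact ⟨l, fun j => (cancel_mono (i j)).1 (by rw [Category.assoc, hπ, hl]; exact (heq j).symm)⟩
  choose l hl using hlift
  have hc : IsLimit c :=
    { lift := l
      fac := fun c' a => hl c' a.unop
      uniq := fun c' m hm => by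
        obtain ⟨j₀⟩ := (inferInstance : Nonempty ι)
        rw [← cancel_mono f, ← hπ j₀, ← Category.assoc, ← Category.assoc, hl c' j₀]
        exact congrArg (· ≫ i j₀) (hm (op j₀)) }
  let tt : D ⟶ (Functor.const ιᵒᵖ).obj Y.obj :=
    { app := fun a => i a.unop
      naturality := fun a b φ => by
        change k _ ≫ i b.unop = i a.unop ≫ 𝟙 _
        rw [hk, Category.comp_id] }
  refine ⟨ι, inferInstance, ⟨fun a b => exists_ge_ge a b⟩, inferInstance, D, tt, c, hc, Iso.refl _,
    fun a => hZ a.unop, fun a b φ => hcl φ,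
    fun a => ⟨hi a.unop, isFinitePresentationMor_of_fg hp hps (hi a.unop) (sqZ a.unop) a.unop.2.1⟩,
    fun a => by simp [tt, c, hπ]⟩

end Groth.Agent.AlgSpB.IdealApprox
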