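import Groth.Agent.AlgSpB.IdealApprox.Flat
import Groth.Agent.IdealSh.Extend
import Groth.Agent.LimLib.FGIdeal
import Groth.Agent.AlgSp.ClosedSub
import Groth.Agent.AlgSpEN.Induction

/-!
# Invariant ideals of finite type on the atlas of a quasi-compact quasi-separated space
-/

universe u

open CategoryTheory CategoryTheory.Limits AlgebraicGeometry TopologicalSpace

set_option backward.isDefEq.respectTransparency false
set_option backward.isDefEq.respectTransparency.types false
set_option autoImplicit false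
set_option maxHeartbeats 1000000

namespace Groth.Agent.AlgSpB.IdealApprox

open _root_.AlgSp
open Groth.Agent.AlgSp.CartierDesc (subOver subι exists_ideal comap_eq)
open Groth.Agent.IdealSh.Extend

/-- Finite type on an open can be tested on any faithfully flat quasi-compact cover of it. -/
theorem fgOn_of_cover {X Y : Scheme.{u}} (g : X ⟶ Y) [Flat g] [QuasiCompact g] (W : Y.Opens)
    (hW : (W : Set Y) ⊆ Set.range g) (I : Y.IdealSheafData)
    (h : ∀ T : X.affineOpens, T.1 ≤ g ⁻¹ᵁ W → ((I.comap g).ideal T).FG) : FGOn I W := by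
  refine fgOn_of_comap ?_
  have : Surjective (g ∣_ W) := ⟨fun y => by
    obtain ⟨x, hx⟩ := hW y.2
    exact ⟨⟨x, show g x ∈ W from hx ▸ y.2⟩, Subtype.ext (by simpa using hx)⟩⟩
  have : Flat (g ∣_ W) := IsZariskiLocalAtTarget.restrict ‹_› W
  have : QuasiCompact (g ∣_ W) := IsZariskiLocalAtTarget.restrict ‹_› W
  refine fg_of_comap (g ∣_ W) _ fun T => ?_
  rw [← Scheme.IdealSheafData.comap_comp, morphismRestrict_ι, Scheme.IdealSheafData.comap_comp,
    Scheme.IdealSheafData.ideal_comap_of_isOpenImmersion]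
  have h1 := h ⟨(g ⁻¹ᵁ W).ι ''ᵁ T.1, T.2.image_of_isOpenImmersion _⟩
    (((g ⁻¹ᵁ W).ι.image_le_opensRange T.1).trans (by simp))
  have hb := ConcreteCategory.bijective_of_isIso ((g ⁻¹ᵁ W).ι.appIso T.1).inv
  let e := RingEquiv.ofBijective _ hb
  exact (Ideal.map_symm e ▸ h1.map e.symm.toRingHom : Ideal.FG (Ideal.comap e.toRingHom _))

/-- Flat base change of the pushforward of ideals, on an open of the target. -/
theorem comap_map_restrict {X Y : Scheme.{u}} (f : X ⟶ Y) [QuasiCompact f] (W : Y.Opens) (I : X.IdealSheafData) :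
    (I.map f).comap W.ι = (I.comap (f ⁻¹ᵁ W).ι).map (f ∣_ W) :=
  comap_map (isPullback_morphismRestrict f W).flip I

variable {S : Scheme.{u}}

/-- The preimage of a compact open set of points under a quasi-compact chart is compact. -/
theorem isCompact_preimage_ofPt {F : Sp S} {U V P : Over S} {p : (yon S).obj U ⟶ F}
    {f : (yon S).obj V ⟶ F} {π₁ : P ⟶ U} {π₂ : P ⟶ V}
    (sq : IsPullback ((yon S).map π₁) ((yon S).map π₂) p f) [QuasiCompact π₁.left]
    (A : Set (Points F)) (hA : IsCompact A) (hAo : IsOpen A) (hp : RepWith @Etale p)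
    (hps : Function.Surjective (Points.ofPt p)) :
    IsCompact (Points.ofPt f ⁻¹' A) := by
  let W : U.left.affineOpens → Set (Points F) := fun O => Points.ofPt p '' (O.1 : Set U.left)
  obtain ⟨s, hs⟩ := hA.elim_finite_subcover
    (fun O : {O : U.left.affineOpens // (O.1 : Set U.left) ⊆ Points.ofPt p ⁻¹' A} => W O.1)
    (fun O => AlgSpB.isOpenMap_ofPt hp _ O.1.1.isOpen) (fun x hx => by
      obtain ⟨y, rfl⟩ := hps x
      obtain ⟨O, hO, hy, hle⟩ := exists_isAffineOpen_mem_and_subset (x := y)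
        (U := ⟨Points.ofPt p ⁻¹' A, hAo.preimage (Points.continuous_ofPt p)⟩) hx
      exact Set.mem_iUnion.2 ⟨⟨⟨O, hO⟩, hle⟩, y, hy, rfl⟩)
  have e : Points.ofPt f ⁻¹' A = ⋃ O ∈ s, π₂.left '' (π₁.left ⁻¹' (O.1.1 : Set U.left)) := by
    have : A = ⋃ O ∈ s, W O.1 := hs.antisymm (Set.iUnion₂_subset fun O _ => Set.image_subset_iff.2 O.2)
    conv_lhs => rw [this]
    simp only [Set.preimage_iUnion, W, AlgSpB.preimage_range_ofPt sq]
  rw [e]
  exact s.isCompact_biUnion fun O _ =>
    (π₁.left.isCompact_preimage O.1.2.isCompact).image π₂.left.continuous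

variable {Y : Space S} {U R : Over S} {p : (yon S).obj U ⟶ Y.obj} {t s : R ⟶ U}

/-- The key step: improve an invariant ideal of finite type over `A` to one over `A ∪ f(V)`. -/
theorem step [QuasiSeparatedSpace ↥S] (hqs : IsQuasiSeparatedSp Y.obj) [IsAffine U.left] (hp : RepWith @Etale p)
    (hps : RepWith @Surjective p) (sq : IsPullback ((yon S).map t) ((yon S).map s) p p)
    {V : Over S} [IsAffine V.left] (f : (yon S).obj V ⟶ Y.obj) (hf : RepWith @Etale f)
    (A : Opens (Points Y.obj)) (hA : IsCompact (A : Set (Points Y.obj)))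
    (hinj : AlgSpEN.InjOutside f (A : Set (Points Y.obj)))
    {K : U.left.IdealSheafData} (hK : ∀ T, (K.ideal T).FG) {J : U.left.IdealSheafData}
    (hJ : J.comap t.left = J.comap s.left) (hKJ : K ≤ J)
    (hfgJ : FGOn J ⟨Points.ofPt p ⁻¹' A, A.2.preimage (Points.continuous_ofPt p)⟩) :
    ∃ J' : U.left.IdealSheafData, K ≤ J' ∧ J' ≤ J ∧ J'.comap t.left = J'.comap s.left ∧
      FGOn J' ⟨Points.ofPt p ⁻¹' ((A : Set (Points Y.obj)) ∪ Set.range (Points.ofPt f)),
        (A.2.union (by rw [← Set.image_univ]; exact AlgSpB.isOpenMap_ofPt hf _ isOpen_univ)).preimage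
          (Points.continuous_ofPt p)⟩ := by
  have hpq := AlgSpEN.repWith_quasiCompact_chart Y hqs p
  have hfq := AlgSpEN.repWith_quasiCompact_chart Y hqs f
  have hsurj : Function.Surjective (Points.ofPt p) := AlgSpB.surjective_ofPt hps
  -- the fibre product of the two charts
  obtain ⟨P, π₁, π₂, sqP⟩ := AlgSpB.exists_pullback_yon hp.1 f
  have : Etale π₁.left := hf.2 _ _ _ sqP.flip
  have : QuasiCompact π₁.left := hfq.2 _ _ _ sqP.flip
  have : Etale π₂.left := hp.2 _ _ _ sqP
  have : QuasiCompact π₂.left := hpq.2 _ _ _ sqP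
  have : Surjective π₂.left := hps.2 _ _ _ sqP
  have : CompactSpace P.left := QuasiCompact.compactSpace_of_compactSpace π₂.left
  have : Etale t.left := hp.2 _ _ _ sq.flip
  have : Etale s.left := hp.2 _ _ _ sq
  -- the closed subspace of `J` and its ideal on `V`
  obtain ⟨Z, i, fstU, -, hi, sqU⟩ := Groth.Agent.AlgSp.ClosedSub.exists_closed hp hps sq J hJ
  obtain ⟨JV, fstV, sqV⟩ := exists_ideal hi f
  obtain ⟨JP, fstP, sqJP⟩ := exists_ideal hi ((yon S).map π₁ ≫ p)
  have hJP : J.comap π₁.left = JP := comap_eq π₁ sqU sqJP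
  have hJPV : JV.comap π₂.left = JP := by
    rw [sqP.w] at sqJP
    exact comap_eq π₂ sqV sqJP
  let AU : U.left.Opens := ⟨Points.ofPt p ⁻¹' A, A.2.preimage (Points.continuous_ofPt p)⟩
  let AV : V.left.Opens := ⟨Points.ofPt f ⁻¹' A, A.2.preimage (Points.continuous_ofPt f)⟩
  have hpre : π₂.left ⁻¹ᵁ AV = π₁.left ⁻¹ᵁ AU := Opens.ext <| Set.ext fun x => by
    change Points.ofPt f (π₂.left x) ∈ (A : Set _) ↔ Points.ofPt p (π₁.left x) ∈ (A : Set _)
    rw [(AlgSpB.ofPt_eq_ofPt_iff sqP (π₁.left x) (π₂.left x)).2 ⟨x, rfl, rfl⟩]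
  have hfgP : ∀ T : P.left.affineOpens, T.1 ≤ π₁.left ⁻¹ᵁ AU → (JP.ideal T).FG := by
    intro T hT
    refine fg_of_forall_exists T fun x hx => ?_
    obtain ⟨O, hxO, hO⟩ := IdealSh.Comap.exists_affine_le (π₁.left x) AU (hT hx)
    obtain ⟨g, hg, hxg⟩ := T.2.exists_basicOpen_le (V := π₁.left ⁻¹ᵁ O.1) ⟨x, hxO⟩ hx
    refine ⟨g, hxg, ?_⟩
    rw [← hJP, IdealSh.Comap.ideal_comap J π₁.left O _ hg]
    exact (hfgJ O hO).map _
  have hAV : FGOn JV AV := fgOn_of_cover π₂.left AV (fun y _ => π₂.left.surjective y) JV fun T hT => by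
    rw [hJPV]; exact hfgP T (hpre ▸ hT)
  -- a finite type ideal on `V`
  obtain ⟨L₀, hL₀fg, hL₀le, hL₀eq⟩ := exists_finiteType (W₀ := AV)
    (isCompact_preimage_ofPt sqP A hA A.2 hp hsurj) hAV
  obtain ⟨ι, _, _, _, G, hG, hGsup⟩ := LimLib.exists_iSup_fg_eq JV
  obtain ⟨a, ha⟩ : ∃ a, K.comap π₁.left ≤ (G a).comap π₂.left := by
    refine LimLib.exists_le_of_fg (LimLib.fg_comap hK _) _
      (Monotone.directed_le fun a b hab => Scheme.IdealSheafData.comap_mono _ (G.monotone hab)) ?_
    rw [← (Scheme.IdealSheafData.map_gc π₂.left).l_iSup, hGsup, hJPV, ← hJP]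
    exact Scheme.IdealSheafData.comap_mono _ hKJ
  let L := L₀ ⊔ G a
  have hL : L ≤ JV := sup_le hL₀le (hGsup ▸ le_iSup (fun j => G j) a)
  have hLfg : ∀ T, (L.ideal T).FG := fun T => by
    rw [Scheme.IdealSheafData.ideal_sup]
    exact Submodule.FG.sup (hL₀fg T) (hG a T)
  have hLA : L.comap AV.ι = JV.comap AV.ι := le_antisymm (Scheme.IdealSheafData.comap_mono _ hL) <| by
    rw [← comap_eq_of_ideal_eq hL₀eq]
    exact Scheme.IdealSheafData.comap_mono _ le_sup_left
  -- invariance of `L`
  have hLinv : ∀ {T : Over S} (m n : T ⟶ V), (yon S).map m ≫ f = (yon S).map n ≫ f →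
      L.comap m.left = L.comap n.left := by
    intro T m n w
    obtain ⟨RV, a, b, sqR⟩ := AlgSpB.exists_pullback_yon hf.1 f
    obtain ⟨l, hl⟩ := (yon S).map_surjective (sqR.lift _ _ w)
    have hla : l ≫ a = m := (yon S).map_injective (by rw [Functor.map_comp, hl, sqR.lift_fst])
    have hlb : l ≫ b = n := (yon S).map_injective (by rw [Functor.map_comp, hl, sqR.lift_snd])
    suffices h : L.comap a.left = L.comap b.left by
      rw [← hla, ← hlb, Over.comp_left, Over.comp_left, Scheme.IdealSheafData.comap_comp, h,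
        Scheme.IdealSheafData.comap_comp]
    obtain ⟨δ, hδ⟩ := (yon S).map_surjective (sqR.lift (𝟙 _) (𝟙 _) rfl)
    have hδa : δ ≫ a = 𝟙 V := (yon S).map_injective (by rw [Functor.map_comp, hδ, sqR.lift_fst, CategoryTheory.Functor.map_id])
    have hδb : δ ≫ b = 𝟙 V := (yon S).map_injective (by rw [Functor.map_comp, hδ, sqR.lift_snd, CategoryTheory.Functor.map_id])
    have : Etale a.left := hf.2 _ _ _ sqR.flip
    have : IsOpenImmersion δ.left := by
      have : Etale (δ.left ≫ a.left) := by rw [← Over.comp_left, hδa]; exact inferInstanceAs (Etale (𝟙 _))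
      have : Mono (δ.left ≫ a.left) := by rw [← Over.comp_left, hδa]; exact inferInstanceAs (Mono (𝟙 _))
      have : Etale δ.left := Etale.of_comp δ.left a.left
      have : Mono δ.left := mono_of_mono δ.left a.left
      exact IsOpenImmersion.of_flat_of_mono _
    obtain ⟨JR, fstR, sqJR⟩ := exists_ideal hi ((yon S).map a ≫ f)
    have hJR : JV.comap a.left = JV.comap b.left := by
      rw [comap_eq a sqV sqJR]
      rw [sqR.w] at sqJR
      exact (comap_eq b sqV sqJR).symm
    refine IdealSh.Comap.ext_of_forall_exists _ _ fun z => ?_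
    by_cases hz : a.left z ∈ AV
    · obtain ⟨O, hzO, hO⟩ := IdealSh.Comap.exists_affine_le z (a.left ⁻¹ᵁ AV ⊓ b.left ⁻¹ᵁ AV)
        ⟨hz, show Points.ofPt f (b.left z) ∈ (A : Set _) by
          rw [← (AlgSpB.ofPt_eq_ofPt_iff sqR (a.left z) (b.left z)).2 ⟨z, rfl, rfl⟩]; exact hz⟩
      refine ⟨O, hzO, ?_⟩
      have key : ∀ c : RV ⟶ V, O.1 ≤ c.left ⁻¹ᵁ AV → (L.comap c.left).ideal O = (JV.comap c.left).ideal O := by
        intro c hc
        refine ideal_eq_of_comap_eq (W := c.left ⁻¹ᵁ AV) ?_ O hc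
        rw [← Scheme.IdealSheafData.comap_comp, ← Scheme.IdealSheafData.comap_comp, ← morphismRestrict_ι,
          Scheme.IdealSheafData.comap_comp, hLA, Scheme.IdealSheafData.comap_comp]
      rw [key a (hO.trans inf_le_left), key b (hO.trans inf_le_right), hJR]
    · obtain ⟨z', hz'⟩ : z ∈ δ.left.opensRange := by
        let k : Over.mk (RV.left.fromSpecResidueField z ≫ RV.hom) ⟶ RV := Over.homMk (RV.left.fromSpecResidueField z) rfl
        have hk : k ≫ a = k ≫ b := by
          refine hinj _ _ _ (by simp only [Functor.map_comp, Category.assoc, sqR.w]) fun x hx => hz ?_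
          rw [AlgSpB.ofPt_map_comp] at hx
          change Points.ofPt f (a.left (RV.left.fromSpecResidueField z x)) ∈ (A : Set _) at hx
          rwa [Scheme.fromSpecResidueField_apply] at hx
        have hk' : k ≫ a ≫ δ = k := (yon S).map_injective <| sqR.hom_ext
          (by rw [← Functor.map_comp, Category.assoc, Category.assoc, hδa, Category.comp_id, ← Functor.map_comp])
          (by rw [← Functor.map_comp, Category.assoc, Category.assoc, hδb, Category.comp_id, hk, ← Functor.map_comp])
        refine ⟨a.left z, ?_⟩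
        have := congrArg (fun e : _ ⟶ RV => e.left (IsLocalRing.closedPoint (RV.left.residueField z))) hk'
        simp only [k, Over.comp_left, Over.homMk_left, Scheme.Hom.comp_apply] at this
        erw [Scheme.fromSpecResidueField_apply] at this
        exact this
      obtain ⟨O, hzO, hO⟩ := IdealSh.Comap.exists_affine_le z δ.left.opensRange ⟨z', hz'⟩
      refine ⟨O, hzO, ?_⟩
      refine ideal_eq_of_comap_eq (W := δ.left.opensRange) ?_ O hO
      have e : (δ.left.isoOpensRange).inv ≫ δ.left = δ.left.opensRange.ι := Scheme.Hom.isoOpensRange_inv_comp _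
      rw [← e, Scheme.IdealSheafData.comap_comp, Scheme.IdealSheafData.comap_comp]
      congr 1
      rw [← Scheme.IdealSheafData.comap_comp, ← Scheme.IdealSheafData.comap_comp, ← Over.comp_left, ← Over.comp_left,
        hδa, hδb]
  -- the new ideal
  let LP := L.comap π₂.left
  have hLP : (LP.map π₁.left).comap π₁.left = LP := by
    have sqQ := IsPullback.of_hasPullback π₁ π₁
    refine comap_map_eq_self π₁.left LP (sqQ.map (Over.forget S)) ?_
    change (L.comap π₂.left).comap (pullback.fst π₁ π₁).left = (L.comap π₂.left).comap (pullback.snd π₁ π₁).left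
    rw [← Scheme.IdealSheafData.comap_comp, ← Scheme.IdealSheafData.comap_comp, ← Over.comp_left, ← Over.comp_left]
    refine hLinv _ _ ?_
    simp only [Functor.map_comp, Category.assoc, ← sqP.w]
    rw [← Functor.map_comp_assoc, pullback.condition, Functor.map_comp_assoc]
  refine ⟨J ⊓ LP.map π₁.left, le_inf hKJ ?_, inf_le_left, ?_, fgOn_mono (W := AU ⊔ ⟨Set.range π₁.left, π₁.left.isOpenMap.isOpen_range⟩) ?_
    (fgOn_sup ?_ ?_)⟩
  · rw [Scheme.IdealSheafData.le_map_iff_comap_le]
    exact ha.trans (Scheme.IdealSheafData.comap_mono _ le_sup_right)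
  · -- invariance
    let Pt := pullback π₁ t
    have sqt : IsPullback (pullback.fst π₁ t) (pullback.snd π₁ t) π₁ t := IsPullback.of_hasPullback _ _
    have hw : (yon S).map (pullback.snd π₁ t ≫ s) ≫ p = (yon S).map (pullback.fst π₁ t ≫ π₂) ≫ f := by
      rw [Functor.map_comp, Functor.map_comp, Category.assoc, Category.assoc, ← sq.w, ← sqP.w,
        ← Functor.map_comp_assoc, ← pullback.condition, Functor.map_comp_assoc]
    obtain ⟨q, hq⟩ := (yon S).map_surjective (sqP.lift _ _ hw)
    have hq₁ : q ≫ π₁ = pullback.snd π₁ t ≫ s := (yon S).map_injective (by rw [Functor.map_comp, hq, sqP.lift_fst])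
    have hq₂ : q ≫ π₂ = pullback.fst π₁ t ≫ π₂ := (yon S).map_injective (by rw [Functor.map_comp, hq, sqP.lift_snd])
    have h3 : IsPullback ((yon S).map (pullback.fst π₁ t ≫ π₂)) ((yon S).map (pullback.snd π₁ t)) f
        ((yon S).map s ≫ p) := by
      rw [← sq.w, Functor.map_comp]
      exact (sqt.map (yon S)).paste_horiz sqP.flip
    have sqs : IsPullback q.left (pullback.snd π₁ t).left π₁.left s.left := by
      refine IsPullback.map (Over.forget S) (IsPullback.of_map (yon S) hq₁ ?_)
      refine IsPullback.of_right ?_ (by rw [← Functor.map_comp, hq₁, Functor.map_comp]) sqP.flip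
      rw [← Functor.map_comp, hq₂]
      exact h3
    have sqt' : IsPullback (pullback.fst π₁ t).left (pullback.snd π₁ t).left π₁.left t.left := sqt.map (Over.forget S)
    rw [comap_inf, comap_inf, hJ, comap_map sqt', comap_map sqs]
    congr 2
    change (L.comap π₂.left).comap (pullback.fst π₁ t).left = (L.comap π₂.left).comap q.left
    rw [← Scheme.IdealSheafData.comap_comp, ← Scheme.IdealSheafData.comap_comp, ← Over.comp_left, ← Over.comp_left, hq₂]
  · intro x hx
    rcases hx with hx | ⟨v, hv⟩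
    · exact Or.inl hx
    · obtain ⟨w, hw1, -⟩ := (AlgSpB.ofPt_eq_ofPt_iff sqP x v).1 hv.symm
      exact Or.inr ⟨w, hw1⟩
  · -- over `A` the ideal is unchanged
    intro T hT
    have h : (J ⊓ LP.map π₁.left).comap AU.ι = J.comap AU.ι := by
      refine le_antisymm (Scheme.IdealSheafData.comap_mono _ inf_le_left) ?_
      rw [comap_inf, le_inf_iff]
      refine ⟨le_rfl, ?_⟩
      rw [comap_map_restrict, Scheme.IdealSheafData.le_map_iff_comap_le, ← Scheme.IdealSheafData.comap_comp,
        morphismRestrict_ι, Scheme.IdealSheafData.comap_comp, hJP, ← hJPV]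
      change (JV.comap π₂.left).comap (π₁.left ⁻¹ᵁ AU).ι ≤ (L.comap π₂.left).comap (π₁.left ⁻¹ᵁ AU).ι
      rw [← hpre, ← Scheme.IdealSheafData.comap_comp, ← Scheme.IdealSheafData.comap_comp, ← morphismRestrict_ι,
        Scheme.IdealSheafData.comap_comp, Scheme.IdealSheafData.comap_comp, hLA]
    rw [ideal_eq_of_comap_eq h T hT]
    exact hfgJ T hT
  · refine fgOn_of_cover π₁.left _ (fun x hx => hx) _ fun T _ => ?_
    rw [comap_inf, hLP, hJP, ← hJPV, inf_eq_right.2 (Scheme.IdealSheafData.comap_mono _ hL)]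
    exact LimLib.fg_comap hLfg _ T

end Groth.Agent.AlgSpB.IdealApprox
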