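import Groth.Agent.AlgSpB.IdealApprox.SqZeroSpace
import Groth.Agent.AlgSpB.IdealApprox.Main
import Groth.Agent.S0440
import Groth.Agent.AlgSpB.OpenGlue

/-!
# A thickening of an affine scheme is an affine scheme
-/

universe u

open CategoryTheory CategoryTheory.Limits AlgebraicGeometry TopologicalSpace

set_option backward.isDefEq.respectTransparency false
set_option backward.isDefEq.respectTransparency.types false
set_option autoImplicit false
set_option maxHeartbeats 1000000

namespace Groth.Agent.AlgSpB.IdealApprox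

instance descendsAlong_quasiCompact :
    MorphismProperty.DescendsAlong @QuasiCompact.{u} (@Surjective ⊓ @Flat ⊓ @QuasiCompact) where
  of_isPullback {A X Y Z fst snd f g} h hf hfst := by
    obtain ⟨⟨hs, -⟩, hq⟩ := hf
    have := hs
    have := hq
    have := (hfst : QuasiCompact fst)
    refine ⟨fun V hV hVc => ?_⟩
    have hsnd : Surjective snd := MorphismProperty.of_isPullback (P := @Surjective) h ‹_›
    have e : g ⁻¹' V = snd '' (fst ⁻¹' (f ⁻¹' V)) := by
      ext y
      constructor
      · intro hy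
        obtain ⟨a, rfl⟩ := snd.surjective y
        refine ⟨a, ?_, rfl⟩
        change f (fst a) ∈ V
        rw [← Scheme.Hom.comp_apply, h.w, Scheme.Hom.comp_apply]
        exact hy
      · rintro ⟨a, ha, rfl⟩
        change g (snd a) ∈ V
        rw [← Scheme.Hom.comp_apply, ← h.w, Scheme.Hom.comp_apply]
        exact ha
    rw [e]
    exact (QuasiCompact.isCompact_preimage _ (hV.preimage f.continuous)
      (QuasiCompact.isCompact_preimage _ hV hVc)).image snd.continuous

open _root_.AlgSp
open Groth.Agent.AlgSp.CartierDesc (subOver subι exists_ideal comap_eq)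

variable {S : Scheme.{u}} {X : Space S} {U R : Over S} [IsAffine U.left] {p : (yon S).obj U ⟶ X.obj} {t s : R ⟶ U}

omit [IsAffine U.left] in
theorem surjective_subschemeι_of_le {I J : U.left.IdealSheafData} [Surjective I.subschemeι] (h : J ≤ I) :
    Surjective J.subschemeι := ⟨fun x => by
  obtain ⟨y, rfl⟩ := I.subschemeι.surjective x
  exact ⟨Scheme.IdealSheafData.inclusion h y, by rw [← Scheme.Hom.comp_apply, Scheme.IdealSheafData.inclusion_subschemeι]⟩⟩

/-- A thickening of finite order of an affine scheme is affine. -/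
theorem exists_affine_of_nilpotent (hp : RepWith @Etale p) (hps : RepWith @Surjective p)
    (sq : IsPullback ((yon S).map t) ((yon S).map s) p p) {I : U.left.IdealSheafData} [Surjective I.subschemeι]
    (hI : I.comap t.left = I.comap s.left) (n : ℕ) (hn : I ^ (2 ^ n) = ⊥) {Z : Sp S} {i : Z ⟶ X.obj}
    (hi : RepWith @IsClosedImmersion i) {fst : (yon S).obj (subOver U I) ⟶ Z}
    (sqI : IsPullback fst ((yon S).map (subι U I)) i p)
    (hZ : ∃ T : Over S, IsAffine T.left ∧ Nonempty ((yon S).obj T ≅ Z)) :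
    ∃ T : Over S, IsAffine T.left ∧ Nonempty ((yon S).obj T ≅ X.obj) := by
  have hinv : ∀ k : ℕ, (I ^ k).comap t.left = (I ^ k).comap s.left := fun k => by
    rw [IdealSh.Comap.comap_pow, IdealSh.Comap.comap_pow, hI]
  have hle : ∀ {k : ℕ}, 0 < k → I ^ k ≤ I := fun {k} hk T => by
    rw [Scheme.IdealSheafData.ideal_pow, Pi.pow_apply]
    exact Ideal.pow_le_self (by omega)
  choose Zk ik fk hZk hik sqk using fun m : ℕ =>
    Groth.Agent.AlgSp.ClosedSub.exists_closed hp hps sq (I ^ (2 ^ m)) (hinv _)
  suffices H : ∀ m, ∃ T : Over S, IsAffine T.left ∧ Nonempty ((yon S).obj T ≅ Zk m) by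
    obtain ⟨T, hT, ⟨e⟩⟩ := H n
    have : Mono (ik n) := AlgSpB.mono_of_isClosedImmersion (hik n)
    obtain ⟨k, hk⟩ := (Groth.Agent.AlgSp.ClosedSub.exists_factor_iff (hik n) (sqk n) (𝟙 X.obj) p hp hps (𝟙 U)
      (by simp)).2 (by rw [hn]; exact bot_le)
    exact ⟨T, hT, ⟨e ≪≫ ⟨ik n, k, (cancel_mono (ik n)).1 (by rw [Category.assoc, hk, Category.comp_id, Category.id_comp]), hk⟩⟩⟩
  intro m
  induction m with
  | zero =>
    obtain ⟨T, hT, ⟨e⟩⟩ := hZ
    have : Mono i := AlgSpB.mono_of_isClosedImmersion hi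
    have : Mono (ik 0) := AlgSpB.mono_of_isClosedImmersion (hik 0)
    have h0 : I ^ (2 ^ 0) = I := by simp
    obtain ⟨a, ha⟩ := (Groth.Agent.AlgSp.ClosedSub.exists_le_iff (hik 0) hp hps sqI (sqk 0)).2 h0.le
    obtain ⟨b, hb⟩ := (Groth.Agent.AlgSp.ClosedSub.exists_le_iff hi hp hps (sqk 0) sqI).2 h0.ge
    exact ⟨T, hT, ⟨e ≪≫ ⟨a, b, (cancel_mono i).1 (by rw [Category.assoc, hb, ha, Category.id_comp]),
      (cancel_mono (ik 0)).1 (by rw [Category.assoc, ha, hb, Category.id_comp])⟩⟩⟩
  | succ m ih =>
    obtain ⟨T₀, hT₀, ⟨e⟩⟩ := ih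
    let J := I ^ (2 ^ m)
    let J' := I ^ (2 ^ (m + 1))
    have hJJ : J' = J * J := by simp only [J, J', ← pow_add, pow_succ, mul_two]
    have hJ' : J' ≤ J := fun T => by
      rw [hJJ, Scheme.IdealSheafData.ideal_mul, Pi.mul_apply]
      exact Ideal.mul_le_left
    have : Surjective J'.subschemeι := surjective_subschemeι_of_le (hle (Nat.two_pow_pos _))
    have : Surjective J.subschemeι := surjective_subschemeι_of_le (hle (Nat.two_pow_pos _))
    have hmono : Mono (ik (m + 1)) := AlgSpB.mono_of_isClosedImmersion (hik (m + 1))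
    obtain ⟨c, hc⟩ := (Groth.Agent.AlgSp.ClosedSub.exists_le_iff (hik (m + 1)) hp hps (sqk m) (sqk (m + 1))).2 hJ'
    let j : subOver U J ⟶ subOver U J' := Over.homMk (Scheme.IdealSheafData.inclusion hJ') (by
      change Scheme.IdealSheafData.inclusion hJ' ≫ J'.subschemeι ≫ U.hom = J.subschemeι ≫ U.hom
      rw [Scheme.IdealSheafData.inclusion_subschemeι_assoc])
    have hj : j ≫ subι U J' = subι U J := Over.OverMorphism.ext (Scheme.IdealSheafData.inclusion_subschemeι hJ')
    have sqj : IsPullback (fk m) ((yon S).map j) c (fk (m + 1)) := by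
      refine IsPullback.of_bot (by rw [← Functor.map_comp, hj, hc]; exact sqk m) ?_ (sqk (m + 1))
      rw [← cancel_mono (ik (m + 1)), Category.assoc, hc, Category.assoc, (sqk (m + 1)).w, (sqk m).w,
        ← Functor.map_comp_assoc, hj]
    have : IsClosedImmersion (subι U J').left := inferInstanceAs (IsClosedImmersion J'.subschemeι)
    have : IsAffine (subOver U J').left := isAffine_of_isAffineHom J'.subschemeι
    have : IsAffine (subOver U J).left := isAffine_of_isAffineHom J.subschemeι
    have : IsClosedImmersion j.left := inferInstanceAs (IsClosedImmersion (Scheme.IdealSheafData.inclusion hJ'))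
    have : Surjective j.left := ⟨fun x => by
      obtain ⟨y, hy⟩ := J.subschemeι.surjective (J'.subschemeι x)
      refine ⟨y, J'.subschemeι.isClosedEmbedding.injective ?_⟩
      change (j.left ≫ J'.subschemeι) y = _
      rw [show j.left ≫ J'.subschemeι = J.subschemeι from Scheme.IdealSheafData.inclusion_subschemeι hJ']
      exact hy⟩
    have hp' : RepWith @Etale (fk (m + 1)) := MorphismProperty.of_isPullback (sqk (m + 1)).flip hp
    have hps' : RepWith @Surjective (fk (m + 1)) := MorphismProperty.of_isPullback (sqk (m + 1)).flip hps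
    obtain ⟨R', t', s', sq'⟩ := Groth.Agent.AlgSp.exists_isPullback_yon (hZk (m + 1)).diag (fk (m + 1)) (fk (m + 1))
    obtain ⟨p₀, hp₀⟩ := (yon S).map_surjective (fk m ≫ e.inv)
    refine SqZero.exists_iso_yon_of_sqZero (i := e.hom ≫ c) hp' hps' (p₀ := p₀) (j := j) ?_ ?_ sq'
    · exact sqj.of_iso (Iso.refl _) e.symm (Iso.refl _) (Iso.refl _) (by simp [hp₀]) (by simp) (by simp) (by simp)
    · -- the kernel has square zero
      intro a ha b hb
      rw [RingHom.mem_ker] at ha hb
      have hs := J'.subschemeι.app_surjective ⊤ (isAffineOpen_top _)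
      obtain ⟨a', rfl⟩ := hs a
      obtain ⟨b', rfl⟩ := hs b
      have key : ∀ x, j.left.appTop.hom ((J'.subschemeι.app ⊤).hom x) = (J.subschemeι.app ⊤).hom x := fun x =>
        congr($(congrArg Scheme.Hom.appTop (Scheme.IdealSheafData.inclusion_subschemeι hJ')).hom x)
      have hmem : ∀ x, j.left.appTop.hom ((J'.subschemeι.app ⊤).hom x) = 0 → x ∈ J.ideal ⟨⊤, isAffineOpen_top _⟩ :=
        fun x hx => by
          rw [← J.ker_subschemeι_app ⟨⊤, isAffineOpen_top _⟩, RingHom.mem_ker]
          exact (key x).symm.trans hx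
      erw [← map_mul]
      have : a' * b' ∈ J'.ideal ⟨⊤, isAffineOpen_top _⟩ := by
        rw [hJJ, Scheme.IdealSheafData.ideal_mul, Pi.mul_apply]
        exact Ideal.mul_mem_mul (hmem a' ha) (hmem b' hb)
      rwa [← J'.ker_subschemeι_app ⟨⊤, isAffineOpen_top _⟩, RingHom.mem_ker] at this

omit [IsAffine U.left] in
/-- An algebraic space with a surjective closed immersion from an affine scheme is quasi-compact and
quasi-separated. -/
theorem qcqs_of_affine_thick [QuasiSeparatedSpace ↥S] {T₀ : Over S} [IsAffine T₀.left] (i : (yon S).obj T₀ ⟶ X.obj)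
    (hi : RepWith @IsClosedImmersion i) (his : RepWith @Surjective i) :
    IsQuasiCompactSp X.obj ∧ IsQuasiSeparatedSp X.obj := by
  have : CompactSpace (Points X.obj) := by
    refine ⟨?_⟩
    rw [← (Function.Surjective.range_eq (AlgSpB.surjective_ofPt his))]
    exact isCompact_range (Points.continuous_ofPt i)
  have hqc := Groth.Agent.AlgSp.isQuasiCompactSp_of_compactSpace X.property this
  refine ⟨hqc, ?_⟩
  obtain ⟨U, p, hU, hp, hps⟩ := AlgSpEN.exists_affine_atlas X hqc
  have := hU
  obtain ⟨R, t, s, sq⟩ := Groth.Agent.AlgSp.exists_isPullback_yon X.property.diag p p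
  obtain ⟨U₀, p₀, j, sqI⟩ := AlgSpB.exists_pullback_yon hi.1 p
  have : IsClosedImmersion j.left := hi.2 _ _ _ sqI
  have : Surjective j.left := his.2 _ _ _ sqI
  have : IsAffine U₀.left := isAffine_of_isAffineHom j.left
  have : Etale p₀.left := hp.2 _ _ _ sqI.flip
  have sq₀ := IsPullback.of_hasPullback p₀ p₀
  have : IsAffine (pullback p₀ p₀).left :=
    .of_isIso (show IsPullback _ _ p₀.left p₀.left from sq₀.map (Over.forget S)).isoPullback.hom
  have hw : (yon S).map (pullback.snd p₀ p₀ ≫ j) ≫ p = (yon S).map (pullback.fst p₀ p₀ ≫ j) ≫ p := by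
    simp only [Functor.map_comp, Category.assoc, ← sqI.w]
    rw [← Functor.map_comp_assoc, ← Functor.map_comp_assoc, pullback.condition]
  obtain ⟨k, hk⟩ := (yon S).map_surjective (sq.lift _ _ hw)
  have hkt : k ≫ t = pullback.snd p₀ p₀ ≫ j := (yon S).map_injective (by rw [Functor.map_comp, hk, sq.lift_fst])
  have hks : k ≫ s = pullback.fst p₀ p₀ ≫ j := (yon S).map_injective (by rw [Functor.map_comp, hk, sq.lift_snd])
  have sqK : IsPullback k (pullback.snd p₀ p₀) t j := by
    refine IsPullback.of_map (yon S) hkt (IsPullback.of_right ?_ (by rw [← Functor.map_comp, hkt, Functor.map_comp]) sq.flip)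
    rw [← Functor.map_comp, hks, Functor.map_comp, ← sqI.w]
    exact (sq₀.map (yon S)).paste_horiz sqI.flip
  have : Surjective k.left := MorphismProperty.of_isPullback (P := @Surjective)
    (show IsPullback k.left (pullback.snd p₀ p₀).left t.left j.left from sqK.map (Over.forget S)).flip ‹_›
  have : CompactSpace R.left := ⟨by
    rw [← k.left.surjective.range_eq]
    exact isCompact_range k.left.continuous⟩
  have : Sheaf.IsLocallySurjective p := Groth.Agent.AlgSp.isLocallySurjective_of_etale_surjective p hp hps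
  change RepWith @QuasiCompact (Limits.diag X.obj)
  have hpp : RepWith @Etale (prod.map p p) ∧ RepWith @Surjective (prod.map p p) :=
    have key : ∀ (P : MorphismProperty Scheme.{u}) [P.IsStableUnderBaseChange] [P.IsStableUnderComposition],
        RepWith P p → RepWith P (prod.map p p) := fun P _ _ h => by
      rw [show prod.map p p = prod.map p (𝟙 _) ≫ prod.map (𝟙 _) p by simp]
      exact (RepWith P).comp_mem _ _ (Groth.Agent.AlgSp.prodMap_id_mem _ h _) (Groth.Agent.AlgSp.id_prodMap_mem _ h _)
    ⟨key @Etale hp, key @Surjective hps⟩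
  refine Groth.Agent.AlgSp.InfDescent.repWith_of_baseChange @QuasiCompact X.property.diag hpp.1 hpp.2
    (Groth.Agent.AlgSp.isPullback_diag_prodMap p sq) ?_
  rw [Groth.Agent.AlgSp.prodLift_map]
  refine (MorphismProperty.cancel_right_of_respectsIso (RepWith @QuasiCompact) _ _).2 ((repWith_yon_map_iff _ _).2 ?_)
  have : QuasiSeparated (prod.snd : U ⨯ U ⟶ U).left := by
    have h : IsPullback (prod.fst : U ⨯ U ⟶ U).left (prod.snd : U ⨯ U ⟶ U).left U.hom U.hom :=
      CategoryTheory.Over.isPullback_of_binaryFan_isLimit (BinaryFan.mk prod.fst prod.snd) (prodIsProd U U)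
    exact MorphismProperty.of_isPullback h (inferInstance : QuasiSeparated U.hom)
  have : QuasiCompact ((prod.lift t s).left ≫ (prod.snd : U ⨯ U ⟶ U).left) := by
    rw [← Over.comp_left, prod.lift_snd]
    infer_instance
  exact QuasiCompact.of_comp (prod.lift t s).left (prod.snd : U ⨯ U ⟶ U).left

omit [IsAffine U.left] in
/-- An algebraic space with a surjective closed immersion from an affine scheme is an affine scheme. -/
theorem exists_affine_of_thick [QuasiSeparatedSpace ↥S] {T₀ : Over S} [IsAffine T₀.left]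
    (i : (yon S).obj T₀ ⟶ X.obj) (hi : RepWith @IsClosedImmersion i) (his : RepWith @Surjective i) :
    ∃ T : Over S, IsAffine T.left ∧ Nonempty ((yon S).obj T ≅ X.obj) := by
  obtain ⟨hqc, hqs⟩ := qcqs_of_affine_thick i hi his
  obtain ⟨U, p, hU, hp, hps⟩ := AlgSpEN.exists_affine_atlas X hqc
  have := hU
  obtain ⟨R, t, s, sq⟩ := Groth.Agent.AlgSp.exists_isPullback_yon X.property.diag p p
  obtain ⟨I, fstI, sqI⟩ := exists_ideal hi p
  have hI : I.comap t.left = I.comap s.left := Groth.Agent.AlgSp.ClosedSub.comap_eq_comap hi sq.w sqI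
  have : Surjective I.subschemeι := his.2 _ _ _ sqI
  choose Z z fz hZ hz sqz using fun j : Idx t s I => Groth.Agent.AlgSp.ClosedSub.exists_closed hp hps sq j.1 j.2.2.2
  let ι := (Idx t s I)ᵒᵈ
  have : Mono i := AlgSpB.mono_of_isClosedImmersion hi
  obtain ⟨j, hj⟩ := Groth.Agent.AlgSpB.Art.exists_scheme_of_iInter X.property hqc hqs (J := ι)
    (fun j => Z (OrderDual.ofDual j)) (fun j => z (OrderDual.ofDual j)) (fun j => hz (OrderDual.ofDual j))
    (fun {a b} h => (Groth.Agent.AlgSp.ClosedSub.exists_le_iff (hz _) hp hps (sqz (OrderDual.ofDual a)) (sqz _)).2 h)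
    i hi (fun j => (Groth.Agent.AlgSp.ClosedSub.exists_le_iff (hz _) hp hps sqI (sqz _)).2 (OrderDual.ofDual j).2.2.1)
    (fun T g hg => by
      obtain ⟨W, m, q, sqW⟩ := AlgSpB.exists_pullback_yon hp.1 g
      have hqe : RepWith @Etale ((yon S).map q) := MorphismProperty.of_isPullback sqW hp
      have hqs' : RepWith @Surjective ((yon S).map q) := MorphismProperty.of_isPullback sqW hps
      rw [Groth.Agent.AlgSp.ClosedSub.exists_factor_iff hi sqI g ((yon S).map q) hqe hqs' m sqW.w.symm,
        ← iSup_idx_eq hqc hqs hp hps sq hI]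
      exact iSup_le fun j => (Groth.Agent.AlgSp.ClosedSub.exists_factor_iff (hz j) (sqz j) g ((yon S).map q) hqe hqs'
        m sqW.w.symm).1 (hg (OrderDual.toDual j)))
    (AlgSpB.isRepresentable_of_iso (Iso.refl _))
  -- the member is affine
  let J : Idx t s I := OrderDual.ofDual j
  obtain ⟨T₁, ⟨e₁⟩⟩ : ∃ T₁ : Over S, Nonempty ((yon S).obj T₁ ≅ Z J) := AlgSpB.exists_iso_of_isRepresentable hj
  obtain ⟨c, hc⟩ := (Groth.Agent.AlgSp.ClosedSub.exists_le_iff (hz J) hp hps sqI (sqz J)).2 J.2.2.1
  have : Mono (z J) := AlgSpB.mono_of_isClosedImmersion (hz J)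
  obtain ⟨c', hc'⟩ := (yon S).map_surjective (c ≫ e₁.inv)
  have hcp : ∀ (P : MorphismProperty Scheme.{u}) [P.IsStableUnderBaseChange] [P.RespectsIso], RepWith P i → P c'.left := fun P _ _ h => by
    rw [← repWith_yon_map_iff P c', hc', MorphismProperty.cancel_right_of_respectsIso (RepWith P)]
    exact MorphismProperty.of_isPullback (AlgSpEN.isPullback_of_mono_lift c (z J) i hc) h
  have : IsClosedImmersion c'.left := hcp @IsClosedImmersion hi
  have : Surjective c'.left := hcp @Surjective his
  have : IsAffine T₁.left := Groth.Agent.S0440.result c'.left c'.left.surjective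
  have : Surjective J.1.subschemeι := surjective_subschemeι_of_le J.2.2.1
  obtain ⟨n, hn⟩ : ∃ n, J.1 ^ (2 ^ n) = ⊥ := by
    let top : U.left.affineOpens := ⟨⊤, isAffineOpen_top _⟩
    have hnil : J.1.ideal top ≤ nilradical Γ(U.left, ⊤) := fun x hx => by
      rw [mem_nilradical]
      suffices h : U.left.basicOpen x = ⊥ by
        rw [← PrimeSpectrum.basicOpen_eq_bot_iff, ← top.2.fromSpec_preimage_basicOpen x, h]
        exact Scheme.Hom.preimage_bot _
      refine Opens.ext (Set.eq_empty_iff_forall_notMem.2 fun y hy => ?_)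
      obtain ⟨y', rfl⟩ := J.1.subschemeι.surjective y
      have h0 : (J.1.subschemeι.app ⊤).hom x = 0 := by
        rw [← RingHom.mem_ker, J.1.ker_subschemeι_app top]; exact hx
      have : y' ∈ J.1.subscheme.basicOpen ((J.1.subschemeι.app ⊤).hom x) := by
        rw [← Scheme.preimage_basicOpen]; exact hy
      rw [h0, Scheme.basicOpen_zero] at this
      exact this
    obtain ⟨k, hk⟩ := (Ideal.FG.isNilpotent_iff_le_nilradical (J.2.1 top)).2 hnil
    refine ⟨k, Scheme.IdealSheafData.ext_of_iSup_eq_top (fun _ : Unit => top) (by simp [top]) fun _ => ?_⟩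
    rw [Scheme.IdealSheafData.ideal_pow, Pi.pow_apply, Scheme.IdealSheafData.ideal_bot, Pi.bot_apply, eq_bot_iff]
    exact (Ideal.pow_le_pow_right Nat.lt_two_pow_self.le).trans hk.le
  exact exists_affine_of_nilpotent hp hps sq J.2.2.2 n hn (hz J) (sqz J) ⟨T₁, inferInstance, ⟨e₁⟩⟩

end Groth.Agent.AlgSpB.IdealApprox
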