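import Groth.Agent.AlgSp.KerFlat
import Groth.Agent.IdealSh.Comap
import Groth.Agent.LimLib.ClosedApprox
import Mathlib.AlgebraicGeometry.Morphisms.LocalFlatDescent

/-!
# Ideal sheaves and flat morphisms
-/

universe u

open CategoryTheory CategoryTheory.Limits AlgebraicGeometry

set_option backward.isDefEq.respectTransparency false
set_option backward.isDefEq.respectTransparency.types false
set_option autoImplicit false

namespace Groth.Agent.AlgSpB.IdealApprox

/-- Extension of ideals along a flat ring map commutes with intersections. -/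
theorem map_inf_of_flat {A B : Type u} [CommRing A] [CommRing B] (φ : A →+* B) (hφ : φ.Flat) (I J : Ideal A) :
    (I ⊓ J).map φ = I.map φ ⊓ J.map φ := by
  let _ := φ.toAlgebra
  have : Module.Flat A B := hφ
  refine le_antisymm (Ideal.map_inf_le φ) fun x hx => ?_
  let d : A →ₗ[A] (A ⧸ I) × (A ⧸ J) := I.mkQ.prod J.mkQ
  have hex : Function.Exact (I ⊓ J : Ideal A).subtype d := by
    rw [LinearMap.exact_iff, Submodule.range_subtype, LinearMap.ker_prod, Submodule.ker_mkQ, Submodule.ker_mkQ]
  have aux : ∀ (K : Ideal A) (y : B), y ∈ K.map φ → y ⊗ₜ[A] (K.mkQ 1) = 0 := by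
    intro K y hy
    replace hy : y ∈ K • (⊤ : Submodule A B) := by rw [Ideal.smul_top_eq_map]; exact hy
    induction hy using Submodule.smul_induction_on' with
    | smul r hr m hm =>
      rw [TensorProduct.smul_tmul, ← map_smul, smul_eq_mul, mul_one, Submodule.mkQ_apply,
        (Submodule.Quotient.mk_eq_zero K).mpr hr, TensorProduct.tmul_zero]
    | add a _ b _ ha hb => rw [TensorProduct.add_tmul, ha, hb, add_zero]
  have h0 : d.lTensor B (x ⊗ₜ[A] (1 : A)) = 0 := by
    apply (TensorProduct.prodRight A A B (A ⧸ I) (A ⧸ J)).injective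
    rw [LinearMap.lTensor_tmul, map_zero, TensorProduct.prodRight_tmul]
    exact Prod.ext (aux I x hx.1) (aux J x hx.2)
  obtain ⟨z, hz⟩ := (Module.Flat.lTensor_exact B hex _).mp h0
  have hmem : ∀ z, TensorProduct.rid A B ((I ⊓ J : Ideal A).subtype.lTensor B z) ∈ (I ⊓ J).map φ := by
    intro z
    induction z using TensorProduct.induction_on with
    | zero => simp
    | tmul a b =>
      rw [LinearMap.lTensor_tmul, TensorProduct.rid_tmul, Algebra.smul_def]
      exact Ideal.mul_mem_right _ _ (Ideal.mem_map_of_mem φ b.2)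
    | add a b ha hb => simp only [map_add]; exact add_mem ha hb
  have h2 := hmem z
  rwa [hz, TensorProduct.rid_tmul, one_smul] at h2

variable {X Y : Scheme.{u}}

/-- Pullback of ideal sheaves along a flat morphism commutes with intersections. -/
theorem comap_inf (g : X ⟶ Y) [Flat g] (I J : Y.IdealSheafData) : (I ⊓ J).comap g = I.comap g ⊓ J.comap g := by
  refine IdealSh.Comap.ext_of_forall_exists _ _ fun x => ?_
  obtain ⟨U, V, hx, e⟩ := IdealSh.Comap.exists_affine_pair g x
  refine ⟨V, hx, ?_⟩
  simp only [Scheme.IdealSheafData.ideal_inf, Pi.inf_apply, IdealSh.Comap.ideal_comap _ g U V e]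
  exact map_inf_of_flat _ (HasRingHomProperty.appLE @Flat g inferInstance U V e) _ _

/-- Pushforward of ideal sheaves along a quasi-compact morphism commutes with flat base change. -/
theorem comap_map {Y' P : Scheme.{u}} {g' : P ⟶ X} {f' : P ⟶ Y'} {f : X ⟶ Y} {g : Y' ⟶ Y}
    (sq : IsPullback g' f' f g) [QuasiCompact f] [Flat g] (I : X.IdealSheafData) :
    (I.map f).comap g = (I.comap g').map f' := by
  have h : IsPullback ((I.comapIso g').hom ≫ pullback.snd g' I.subschemeι) (I.comap g').subschemeι I.subschemeι g' :=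
    (IsPullback.of_hasPullback g' I.subschemeι).flip.of_iso (I.comapIso g').symm (Iso.refl _) (Iso.refl _)
      (Iso.refl _) (by simp [← Scheme.IdealSheafData.comapIso_hom_snd]) (by simp) (by simp) (by simp)
  exact (AlgSp.KerFlat.ker_of_isPullback (h.paste_vert sq)).symm

/-- An ideal with equal pullbacks to the fibre square descends along a flat quasi-compact morphism. -/
theorem comap_map_eq_self {P Q : Scheme.{u}} (f : P ⟶ Y) [QuasiCompact f] [Flat f] (I : P.IdealSheafData)
    {a b : Q ⟶ P} (sq : IsPullback a b f f) (h : I.comap a = I.comap b) : (I.map f).comap f = I := by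
  refine le_antisymm (Scheme.IdealSheafData.comap_map_le _ _) ?_
  rw [comap_map sq, h]
  exact Scheme.IdealSheafData.le_map_comap _ _

/-- Finite type of an ideal sheaf descends along a faithfully flat quasi-compact morphism. -/
theorem fg_of_comap (g : X ⟶ Y) [Surjective g] [Flat g] [QuasiCompact g] (I : Y.IdealSheafData)
    (h : ∀ V, ((I.comap g).ideal V).FG) : ∀ U, (I.ideal U).FG := by
  rw [← LimLib.lfp_subschemeι_iff]
  have := (LimLib.lfp_subschemeι_iff _).2 h
  refine MorphismProperty.of_pullback_fst_of_descendsAlong (P := @LocallyOfFinitePresentation)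
    (Q := @Surjective ⊓ @Flat ⊓ @QuasiCompact) (f := g) (g := I.subschemeι)
    ⟨⟨inferInstance, inferInstance⟩, inferInstance⟩ ?_
  rw [← Scheme.IdealSheafData.comapIso_inv_subschemeι]
  infer_instance

end Groth.Agent.AlgSpB.IdealApprox
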