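import Groth.Agent.AlgSpB.IdealApprox.SqZeroDescent
import Groth.Agent.AlgSp.KerFlat
import Groth.Agent.IdealSh.Comap
import Groth.Agent.Hens.HfpEtale

/-!
# Affine schemes and square zero data
-/

universe u

open CategoryTheory CategoryTheory.Limits AlgebraicGeometry TensorProduct

set_option backward.isDefEq.respectTransparency false
set_option backward.isDefEq.respectTransparency.types false
set_option autoImplicit false
set_option maxHeartbeats 1000000

namespace Groth.Agent.AlgSpB.SqZero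

/-- The sections of an affine fibre product are a tensor product. -/
theorem exists_tensor_iso {X Y Z P : Scheme.{u}} [IsAffine X] [IsAffine Y] [IsAffine Z] {fst : P ⟶ X} {snd : P ⟶ Y}
    {f : X ⟶ Z} {g : Y ⟶ Z} (sq : IsPullback fst snd f g) {R A B : Type u} [CommRing R] [CommRing A] [CommRing B]
    [Algebra R A] [Algebra R B] (eA : A ≃+* Γ(X, ⊤)) (eB : B ≃+* Γ(Y, ⊤)) (eR : R ≃+* Γ(Z, ⊤))
    (hA : ∀ r, eA (algebraMap R A r) = f.appTop.hom (eR r)) (hB : ∀ r, eB (algebraMap R B r) = g.appTop.hom (eR r)) :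
    ∃ e : Γ(P, ⊤) ≃+* A ⊗[R] B,
      (∀ a, e (fst.appTop.hom (eA a)) = a ⊗ₜ 1) ∧ ∀ b, e (snd.appTop.hom (eB b)) = 1 ⊗ₜ b := by
  have hpo := isPushout_appTop_of_isPullback sq
  have h' : IsPushout (CommRingCat.ofHom (algebraMap R A)) (CommRingCat.ofHom (algebraMap R B))
      (eA.toCommRingCatIso.hom ≫ fst.appTop) (eB.toCommRingCatIso.hom ≫ snd.appTop) :=
    hpo.of_iso eR.toCommRingCatIso.symm eA.toCommRingCatIso.symm eB.toCommRingCatIso.symm (Iso.refl _)
      (by
        ext x
        obtain ⟨r, rfl⟩ := eR.surjective x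
        change eA.symm (f.appTop.hom (eR r)) = algebraMap R A (eR.symm (eR r))
        rw [← hA, RingEquiv.symm_apply_apply, RingEquiv.symm_apply_apply])
      (by
        ext x
        obtain ⟨r, rfl⟩ := eR.surjective x
        change eB.symm (g.appTop.hom (eR r)) = algebraMap R B (eR.symm (eR r))
        rw [← hB, RingEquiv.symm_apply_apply, RingEquiv.symm_apply_apply])
      (by rw [Iso.refl_hom, Category.comp_id, Iso.symm_hom, Iso.inv_hom_id_assoc])
      (by rw [Iso.refl_hom, Category.comp_id, Iso.symm_hom, Iso.inv_hom_id_assoc])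
  have ht := CommRingCat.isPushout_tensorProduct R A B
  refine ⟨(h'.isoIsPushout _ _ ht).commRingCatIsoToRingEquiv, fun a => ?_, fun b => ?_⟩
  · exact congr($(h'.inl_isoIsPushout_hom _ _ ht).hom a)
  · exact congr($(h'.inr_isoIsPushout_hom _ _ ht).hom b)

/-- A flat base change of a closed immersion gives a flat lift. -/
theorem isFlatLift_of_isPullback {U U₀ D D₀ : Scheme.{u}} [IsAffine U] [IsAffine D] {j : U₀ ⟶ U}
    [IsClosedImmersion j] {g : D ⟶ U} [Flat g] {k : D₀ ⟶ D} {q : D₀ ⟶ U₀} (sq : IsPullback k q g j)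
    {Ab : Type u} [CommRing Ab] [Algebra Ab (Γ(U, ⊤) ⧸ RingHom.ker j.appTop.hom)]
    {E : Type u} [CommRing E] [Algebra Ab E]
    (eU : Γ(U, ⊤) ⧸ RingHom.ker j.appTop.hom ≃+* Γ(U₀, ⊤))
    (heU : ∀ b, eU (Ideal.Quotient.mk _ b) = j.appTop.hom b)
    (eD : Γ(D₀, ⊤) ≃+* E ⊗[Ab] (Γ(U, ⊤) ⧸ RingHom.ker j.appTop.hom))
    (heD : ∀ b, eD (q.appTop.hom (eU b)) = 1 ⊗ₜ b) :
    IsFlatLift g.appTop.hom (eD.toRingHom.comp k.appTop.hom) := by
  have : IsClosedImmersion k := MorphismProperty.of_isPullback (P := @IsClosedImmersion) sq.flip inferInstance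
  refine ⟨?_, eD.surjective.comp (k.app_surjective ⊤ (isAffineOpen_top D)), ?_, fun b => ?_⟩
  · have := HasRingHomProperty.appLE @Flat g inferInstance ⟨⊤, isAffineOpen_top U⟩ ⟨⊤, isAffineOpen_top D⟩ le_rfl
    change (g.app ⊤).hom.Flat
    rw [Scheme.Hom.app_eq_appLE]
    exact this
  · have hk : (eD.toRingHom.comp k.appTop.hom) = eD.toRingHom.comp k.appTop.hom := rfl
    rw [RingHom.ker_comp_of_injective _ eD.injective]
    have h1 : k.ker = j.ker.comap g := AlgSp.KerFlat.ker_of_isPullback sq.flip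
    have h2 := congrArg (fun I : D.IdealSheafData => I.ideal ⟨⊤, isAffineOpen_top D⟩) h1
    rw [IdealSh.Comap.ideal_comap _ g ⟨⊤, isAffineOpen_top U⟩ ⟨⊤, isAffineOpen_top D⟩ le_rfl,
      Scheme.Hom.ker_apply, Scheme.Hom.ker_apply] at h2
    change RingHom.ker (k.app ⊤).hom = Ideal.map (g.app ⊤).hom _
    rw [Scheme.Hom.app_eq_appLE g]
    exact h2
  · change eD (k.appTop.hom (g.appTop.hom b)) = _
    rw [← heD, heU]
    congr 1
    exact congr($(congrArg Scheme.Hom.appTop sq.w).hom b)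

/-- A map to a flat algebra which is bijective modulo a square zero ideal is bijective. -/
theorem bijective_of_flat_sqZero {B P C : Type u} [CommRing B] [CommRing P] [CommRing C] [Algebra B P] [Algebra B C]
    [Module.Flat B C] (ψ : P →ₐ[B] C) (J : Ideal B) (hJ : ∀ a ∈ J, ∀ b ∈ J, a * b = 0)
    (hsurj : ∀ c, ∃ p, c - ψ p ∈ J.map (algebraMap B C))
    (hinj : ∀ p, ψ p ∈ J.map (algebraMap B C) → p ∈ J.map (algebraMap B P)) : Function.Bijective ψ := by
  have hs : Function.Surjective ψ := by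
    intro c
    obtain ⟨p, hp⟩ := hsurj c
    suffices ∀ d ∈ J.map (algebraMap B C), ∃ p, ψ p = d by
      obtain ⟨p', hp'⟩ := this _ hp
      exact ⟨p + p', by rw [map_add, hp', add_sub_cancel]⟩
    intro d hd
    rw [Ideal.map] at hd
    suffices ∀ c : C, ∃ p, ψ p = c * d by simpa using this 1
    induction hd using Submodule.span_induction with
    | mem x hx =>
      obtain ⟨j, hj, rfl⟩ := hx
      intro c
      obtain ⟨q, hq⟩ := hsurj c
      refine ⟨q * algebraMap B P j, ?_⟩
      rw [map_mul, AlgHom.commutes, ← sub_eq_zero, ← sub_mul]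
      obtain hq' : ψ q - c ∈ J.map (algebraMap B C) := by rw [← neg_sub]; exact (Ideal.neg_mem_iff _).2 hq
      clear hq
      generalize ψ q - c = z at hq'
      rw [Ideal.map] at hq'
      induction hq' using Submodule.span_induction with
      | mem y hy =>
        obtain ⟨i, hi, rfl⟩ := hy
        rw [← map_mul, hJ i hi j hj, map_zero]
      | zero => rw [zero_mul]
      | add a b _ _ ha hb => rw [add_mul, ha, hb, add_zero]
      | smul a b _ hb => rw [smul_eq_mul, mul_assoc, hb, mul_zero]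
    | zero => exact fun c => ⟨0, by simp⟩
    | add x y _ _ hx hy =>
      intro c
      obtain ⟨a, ha⟩ := hx c
      obtain ⟨b, hb⟩ := hy c
      exact ⟨a + b, by rw [map_add, ha, hb, mul_add]⟩
    | smul a x _ hx =>
      intro c
      obtain ⟨b, hb⟩ := hx (c * a)
      exact ⟨b, by rw [hb, smul_eq_mul, mul_assoc]⟩
  refine ⟨?_, hs⟩
  have hnil : IsNilpotent J := ⟨2, by
    rw [Submodule.zero_eq_bot, eq_bot_iff, pow_two, Ideal.mul_le]
    exact fun a ha b hb => hJ a ha b hb⟩
  have := Hens.ker_eq_bot_of_flat_of_nilpotent (f := ψ.toLinearMap) hs hnil fun p hp => by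
    have h1 := hinj p (by rw [LinearMap.mem_ker, AlgHom.toLinearMap_apply] at hp; rw [hp]; exact Submodule.zero_mem _)
    rw [Ideal.smul_top_eq_map]
    exact h1
  exact LinearMap.ker_eq_bot.1 this

end Groth.Agent.AlgSpB.SqZero
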