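import Groth.Agent.AlgSpB.IdealApprox.SqZeroTensor
import Groth.Agent.LocFlat.Basic
import Groth.Agent.WittExt.Amitsur
import Mathlib.RingTheory.Flat.FaithfullyFlat.Algebra
import Mathlib.RingTheory.TensorProduct.Quotient

/-!
# Descent along a square zero extension of a faithfully flat covering
-/

universe u

open TensorProduct

set_option autoImplicit false
set_option maxHeartbeats 1000000

namespace Groth.Agent.AlgSpB.SqZero

/-- Exactness of the beginning of a Cech complex with arbitrary last differential. -/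
theorem exact_of_comp_eq_zero (A B M : Type u) [CommRing A] [CommRing B] [Algebra A B] [Module.FaithfullyFlat A B]
    [AddCommGroup M] [Module A M] (f : M →ₗ[A] B ⊗[A] M)
    (hf : ((TensorProduct.mk A B (B ⊗[A] M)) 1 - f.lTensor B) ∘ₗ f = 0) :
    Function.Exact f ((TensorProduct.mk A B (B ⊗[A] M)) 1 - f.lTensor B) := by
  let μ : ∀ (N : Type u) [AddCommGroup N] [Module A N], B ⊗[A] (B ⊗[A] N) →ₗ[A] B ⊗[A] N := fun N _ _ =>
    (LinearMap.mul' A B).rTensor N ∘ₗ (TensorProduct.assoc A B B N).symm.toLinearMap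
  let d : B ⊗[A] M →ₗ[A] B ⊗[A] (B ⊗[A] M) := (TensorProduct.mk A B (B ⊗[A] M)) 1 - f.lTensor B
  have hμ : ∀ (a b : B) (y : B ⊗[A] M), μ (B ⊗[A] M) (a ⊗ₜ (b ⊗ₜ y)) = (a * b) ⊗ₜ y := fun a b y => rfl
  have key : μ (B ⊗[A] M) ∘ₗ d.lTensor B + f.lTensor B ∘ₗ μ M = LinearMap.id := by
    ext a b m
    simp [μ, d, TensorProduct.tmul_sub]
  refine Module.FaithfullyFlat.lTensor_reflects_exact A B _ _ (LinearMap.exact_iff.2 (le_antisymm ?_ ?_))
  · intro z hz
    have := LinearMap.congr_fun key z
    simp only [LinearMap.add_apply, LinearMap.comp_apply, LinearMap.id_apply, d, LinearMap.mem_ker.1 hz,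
      map_zero, zero_add] at this
    exact ⟨_, this⟩
  · rintro _ ⟨z, rfl⟩
    rw [LinearMap.mem_ker, ← LinearMap.comp_apply, ← LinearMap.lTensor_comp, hf, LinearMap.lTensor_zero,
      LinearMap.zero_apply]

variable {Ab B C C₂ : Type u} [CommRing Ab] [CommRing B] [CommRing C] [CommRing C₂] {J : Ideal B}
  [Algebra Ab (B ⧸ J)]

/-- A square zero extension of the Cech nerve of a faithfully flat covering of affine schemes. -/
structure Datum (t s : B →+* C) (ε : C →+* B) (d₀ d₁ d₂ : C →+* C₂)
    (ρ : C →+* (B ⧸ J) ⊗[Ab] (B ⧸ J)) (ρ₂ : C₂ →+* ((B ⧸ J) ⊗[Ab] (B ⧸ J)) ⊗[Ab] (B ⧸ J)) : Prop where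
  sq : ∀ a ∈ J, ∀ b ∈ J, a * b = 0
  lift : IsFlatLift t ρ
  lift₂ : IsFlatLift (d₀.comp t) ρ₂
  ρ_s : ∀ b, ρ (s b) = Ideal.Quotient.mk J b ⊗ₜ 1
  ρ₂_d₂ : ∀ c, ρ₂ (d₂ c) = ρ c ⊗ₜ 1
  ρ_ε : ∀ c, Ideal.Quotient.mk J (ε c) = Algebra.TensorProduct.lmul' Ab (ρ c)
  ε_t : ∀ b, ε (t b) = b
  ε_s : ∀ b, ε (s b) = b
  face₁₂ : ∀ b, d₀ (t b) = d₁ (t b)
  face₀₂ : ∀ b, d₁ (s b) = d₂ (s b)
  face₀₁ : ∀ b, d₀ (s b) = d₂ (t b)

namespace Datum

variable {t s : B →+* C} {ε : C →+* B} {d₀ d₁ d₂ : C →+* C₂}
  {ρ : C →+* (B ⧸ J) ⊗[Ab] (B ⧸ J)} {ρ₂ : C₂ →+* ((B ⧸ J) ⊗[Ab] (B ⧸ J)) ⊗[Ab] (B ⧸ J)}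
  [Module.FaithfullyFlat Ab (B ⧸ J)]

theorem main (h : Datum t s ε d₀ d₁ d₂ ρ ρ₂) :
    (∀ r : Ab, ∃ b, t b = s b ∧ Ideal.Quotient.mk J b = algebraMap Ab (B ⧸ J) r) ∧
      J ≤ Ideal.span {b | b ∈ J ∧ t b = s b} ∧
      Module.Flat (RingHom.eqLocus t s) B := by
  classical
  have htor : Module.IsTorsionBySet B J (J : Set B) := fun m a => Subtype.ext (by
    change (a : B) * (m : B) = 0
    exact h.sq _ a.2 _ m.2)
  let _ : Module (B ⧸ J) J := htor.module
  let _ : Module Ab J := Module.compHom J (algebraMap Ab (B ⧸ J))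
  have : IsScalarTower Ab (B ⧸ J) J := IsScalarTower.of_compHom _ _ _
  have hsmul : ∀ (b : B) (m : J), ((Ideal.Quotient.mk J b • m : J) : B) = b * m := fun b m => rfl
  let Bb := B ⧸ J
  let π := Ideal.Quotient.mk J
  let T := Θ hsmul h.lift
  have hTinj : Function.Injective T := Θ_injective hsmul h.lift
  have hT : ∀ {e : Bb} {b : B}, π b = e → ∀ m : J, T (e ⊗ₜ m) = s b * t m := by
    rintro _ b rfl m
    exact Θ_tmul hsmul h.lift (h.ρ_s b) m
  -- linearity
  have hTsmul : ∀ (b : B) (x : Bb ⊗[Ab] J), T (π b • x) = s b * T x := by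
    intro b x
    induction x using TensorProduct.induction_on with
    | zero => simp
    | tmul e m =>
      obtain ⟨c, rfl⟩ := Ideal.Quotient.mk_surjective e
      rw [smul_tmul', smul_eq_mul, hT rfl, hT (b := b * c) (map_mul _ _ _), map_mul, mul_assoc]
    | add x y hx hy => rw [smul_add, map_add, map_add, hx, hy, mul_add]
  have hσ' : ∀ m : J, ∃ x, T x = s m := fun m => exists_Θ_eq hsmul h.lift (by
    rw [h.ρ_s, Ideal.Quotient.eq_zero_iff_mem.2 m.2, zero_tmul])
  choose σ₀ hσ using hσ'
  let σ : J →ₗ[Ab] Bb ⊗[Ab] J :=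
    { toFun := σ₀
      map_add' := fun m m' => hTinj (by rw [map_add, hσ, hσ, hσ, Submodule.coe_add, map_add])
      map_smul' := fun r m => hTinj (by
        obtain ⟨b, hb⟩ := Ideal.Quotient.mk_surjective (algebraMap Ab Bb r)
        have e1 : (r • m : J) = π b • m := by
          rw [show π b = algebraMap Ab Bb r from hb, algebraMap_smul]
        have e2 : (r • σ₀ m : Bb ⊗[Ab] J) = π b • σ₀ m := by
          rw [show π b = algebraMap Ab Bb r from hb, algebraMap_smul]
        simp only [RingHom.id_apply]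
        rw [e1, e2, hTsmul, hσ, hσ, hsmul, map_mul]) }
  have hσs : ∀ m : J, T (σ m) = s m := hσ
  let η : J →ₗ[Ab] Bb ⊗[Ab] J := TensorProduct.mk Ab Bb J 1
  have hη : ∀ m : J, T (η m) = t m := fun m => by
    change T (1 ⊗ₜ m) = _
    rw [hT (b := 1) (map_one _), map_one, one_mul]
  let f := η - σ
  have hf : ∀ m : J, T (f m) = t m - s m := fun m => by
    simp only [f, LinearMap.sub_apply, map_sub, hη, hσs]
  -- the double fibre product
  let T₂ : Bb ⊗[Ab] (Bb ⊗[Ab] J) →+ C₂ :=
    (Θ hsmul h.lift₂).comp (TensorProduct.assoc Ab Bb Bb J).symm.toLinearMap.toAddMonoidHom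
  have hT₂inj : Function.Injective T₂ :=
    (Θ_injective hsmul h.lift₂).comp (TensorProduct.assoc Ab Bb Bb J).symm.injective
  have hT₂ : ∀ (b : B) (y : Bb ⊗[Ab] J), T₂ (π b ⊗ₜ y) = d₂ (s b) * d₀ (T y) := by
    intro b y
    induction y using TensorProduct.induction_on with
    | zero => simp
    | tmul e m =>
      obtain ⟨c, rfl⟩ := Ideal.Quotient.mk_surjective e
      change Θ hsmul h.lift₂ ((π b ⊗ₜ π c) ⊗ₜ m) = _
      rw [Θ_tmul hsmul h.lift₂ (d := d₂ (s b * t c)) (by
        rw [h.ρ₂_d₂, map_mul ρ, h.ρ_s, h.lift.comp, Algebra.TensorProduct.tmul_mul_tmul, mul_one, one_mul]),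
        hT rfl, map_mul, map_mul, mul_assoc, h.face₀₁]
      rfl
    | add x y hx hy => rw [tmul_add, map_add, map_add, map_add, hx, hy, mul_add]
  have hT₂one : ∀ y, T₂ (1 ⊗ₜ y) = d₀ (T y) := fun y => by
    rw [← map_one π, hT₂, map_one, map_one, one_mul]
  let d : Bb ⊗[Ab] J →ₗ[Ab] Bb ⊗[Ab] (Bb ⊗[Ab] J) := TensorProduct.mk Ab Bb _ 1 - f.lTensor Bb
  let δ : C → C₂ := fun y => d₀ y - d₁ y + d₂ y
  have hd : ∀ y, T₂ (d y) = δ (T y) := by
    intro y
    simp only [d, δ, LinearMap.sub_apply, map_sub, TensorProduct.mk_apply, hT₂one]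
    suffices T₂ (f.lTensor Bb y) = d₁ (T y) - d₂ (T y) by rw [this]; abel
    induction y using TensorProduct.induction_on with
    | zero => simp
    | tmul e m =>
      obtain ⟨c, rfl⟩ := Ideal.Quotient.mk_surjective e
      rw [LinearMap.lTensor_tmul, hT₂, hf, hT rfl, map_sub, mul_sub]
      simp only [map_mul, h.face₀₁, h.face₀₂, h.face₁₂]
    | add x y hx hy => simp only [map_add, hx, hy]; abel
  have hδ : ∀ b, δ (t b - s b) = 0 := fun b => by
    simp only [δ, map_sub, h.face₁₂, h.face₀₂, h.face₀₁]; abel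
  have hdf : d ∘ₗ f = 0 := LinearMap.ext fun m => hT₂inj (by
    rw [LinearMap.comp_apply, hd, hf, hδ, LinearMap.zero_apply, map_zero])
  have hex : Function.Exact f d := exact_of_comp_eq_zero Ab Bb J f hdf
  -- the contraction
  let μ : Bb ⊗[Ab] J →ₗ[Ab] J := TensorProduct.lift ((LinearMap.lsmul Bb J).restrictScalars₁₂ Ab Ab)
  have hμT : ∀ x, ε (T x) = (μ x : B) := by
    intro x
    induction x using TensorProduct.induction_on with
    | zero => simp
    | tmul e m =>
      obtain ⟨c, rfl⟩ := Ideal.Quotient.mk_surjective e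
      rw [hT rfl, map_mul, h.ε_s, h.ε_t]
      rfl
    | add x y hx hy => rw [map_add, map_add, hx, hy, map_add, Submodule.coe_add]
  have hμσ : ∀ m, μ (σ m) = m := fun m => Subtype.ext (by rw [← hμT, hσs, h.ε_s])
  let ι := (LinearMap.ker f).subtype
  have hker : ∀ m : J, f m = 0 ↔ t m = s m := fun m => by
    rw [← hTinj.eq_iff, hf, map_zero, sub_eq_zero]
  have hfσ : ∀ m, f.lTensor Bb (σ m) = 0 := fun m => by
    have h1 : d (f m) = 0 := LinearMap.congr_fun hdf m
    simp only [d, f, η, LinearMap.sub_apply, TensorProduct.mk_apply, map_sub, LinearMap.lTensor_tmul, tmul_sub,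
      LinearMap.sub_apply] at h1 ⊢
    rw [← h1]; abel
  have hrange := LinearMap.exact_iff.1
    (Module.Flat.lTensor_exact Bb (LinearMap.exact_subtype_ker_map f))
  have hμι : Function.Injective (μ ∘ₗ ι.lTensor Bb) := by
    rw [← LinearMap.ker_eq_bot, Submodule.eq_bot_iff]
    intro x hx
    rw [LinearMap.mem_ker, LinearMap.comp_apply] at hx
    refine Module.Flat.lTensor_preserves_injective_linearMap ι Subtype.val_injective ?_
    have key : ∀ x, σ (μ (ι.lTensor Bb x)) = ι.lTensor Bb x := by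
      intro x
      induction x using TensorProduct.induction_on with
      | zero => simp
      | tmul e k =>
        obtain ⟨c, rfl⟩ := Ideal.Quotient.mk_surjective e
        apply hTinj
        rw [LinearMap.lTensor_tmul, hσs, hT rfl]
        change s (c * ((k : J) : B)) = s c * t ((k : J) : B)
        rw [map_mul, (hker k).1 k.2]
      | add x y hx hy => simp only [map_add, hx, hy]
    rw [map_zero, ← key, hx, map_zero]
  have hlift : ∀ r : Ab, ∃ b, t b = s b ∧ Ideal.Quotient.mk J b = algebraMap Ab Bb r := fun r => by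
    obtain ⟨b, hb⟩ := Ideal.Quotient.mk_surjective (algebraMap Ab Bb r)
    obtain ⟨x, hx⟩ := exists_Θ_eq hsmul h.lift (y := t b - s b) (by
      rw [map_sub, h.lift.comp, h.ρ_s, show Ideal.Quotient.mk J b = algebraMap Ab Bb r from hb,
        Algebra.algebraMap_eq_smul_one, tmul_smul, smul_tmul', sub_self])
    obtain ⟨m, hm⟩ := (hex x).1 (hT₂inj (by rw [hd, show T x = _ from hx, hδ, map_zero]))
    refine ⟨b - m, ?_, by rw [map_sub, Ideal.Quotient.eq_zero_iff_mem.2 m.2, sub_zero, hb]⟩
    rw [map_sub, map_sub, sub_eq_sub_iff_sub_eq_sub, ← hf, hm]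
    exact hx.symm
  have hspan : J ≤ Ideal.span {b | b ∈ J ∧ t b = s b} := fun b hb => by
    let m : J := ⟨b, hb⟩
    obtain ⟨x, hx⟩ : σ m ∈ LinearMap.range (ι.lTensor Bb) := hrange ▸ hfσ m
    have : ∀ x, (μ (ι.lTensor Bb x) : B) ∈ Ideal.span {b | b ∈ J ∧ t b = s b} := by
      intro x
      induction x using TensorProduct.induction_on with
      | zero => simp
      | tmul e k =>
        obtain ⟨c, rfl⟩ := Ideal.Quotient.mk_surjective e
        exact Ideal.mul_mem_left _ c (Ideal.subset_span ⟨(k : J).2, (hker k).1 k.2⟩)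
      | add x y hx hy => simp only [map_add, Submodule.coe_add]; exact add_mem hx hy
    have h2 := this x
    rw [hx, hμσ] at h2
    exact h2
  refine ⟨hlift, hspan, ?_⟩
  · -- flatness
    let A := RingHom.eqLocus t s
    let I : Ideal A := J.comap (algebraMap A B)
    have hIB : I.map (algebraMap A B) = J := le_antisymm Ideal.map_comap_le fun b hb => by
      refine (Ideal.span_le.2 ?_) (hspan hb)
      rintro c ⟨hc, hc'⟩
      exact Ideal.mem_map_of_mem (algebraMap A B) (show (⟨c, hc'⟩ : A) ∈ I from hc)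
    -- the comparison `A / I ≃ Ab`
    have hinjAb : Function.Injective (algebraMap Ab Bb) := FaithfulSMul.algebraMap_injective _ _
    have hrng : ∀ a : A, π a ∈ (algebraMap Ab Bb).range := by
      intro a
      have ha : π (a : B) ⊗ₜ[Ab] (1 : Bb) = 1 ⊗ₜ π (a : B) := by
        rw [← h.ρ_s, ← h.lift.comp, show t (a : B) = s (a : B) from a.2]
      obtain ⟨r, hr⟩ := WittExt.Amitsur.exists_of_invariant (A := Ab) (B := Bb) ha
      exact ⟨r, hr⟩
    let ψ : A →+* Ab := ((RingEquiv.ofBijective (algebraMap Ab Bb).rangeRestrict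
      ⟨fun a b e => hinjAb (congrArg Subtype.val e), (algebraMap Ab Bb).rangeRestrict_surjective⟩).symm.toRingHom).comp
      ((π.comp (algebraMap A B)).codRestrict (algebraMap Ab Bb).range hrng)
    have hψ : ∀ a : A, algebraMap Ab Bb (ψ a) = π a := fun a => by
      have := congrArg Subtype.val ((RingEquiv.ofBijective (algebraMap Ab Bb).rangeRestrict
        ⟨fun a b e => hinjAb (congrArg Subtype.val e), (algebraMap Ab Bb).rangeRestrict_surjective⟩).apply_symm_apply
        ((π.comp (algebraMap A B)).codRestrict (algebraMap Ab Bb).range hrng a))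
      exact this
    have hψker : RingHom.ker ψ = I := Ideal.ext fun a => by
      rw [RingHom.mem_ker, ← hinjAb.eq_iff, hψ, map_zero, Ideal.Quotient.eq_zero_iff_mem]; rfl
    have hψsurj : Function.Surjective ψ := fun r => by
      obtain ⟨b, hb₁, hb₂⟩ := hlift r
      exact ⟨⟨b, hb₁⟩, hinjAb (by rw [hψ]; exact hb₂)⟩
    refine LocFlat.flat_criterion_nilpotent B I ⟨2, ?_⟩ ?_ ?_
    · rw [Submodule.zero_eq_bot, eq_bot_iff, pow_two, Ideal.mul_le]
      intro a ha b hb
      exact Subtype.ext (h.sq _ ha _ hb)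
    · -- injectivity
      have hzero : ∀ (i : I), ∀ b ∈ J, i ⊗ₜ[A] b = 0 := by
        intro i b hb
        rw [← hIB, Ideal.map] at hb
        induction hb using Submodule.span_induction with
        | mem x hx =>
          obtain ⟨a, ha, rfl⟩ := hx
          rw [show algebraMap A B a = a • (1 : B) by rw [Algebra.smul_def, mul_one], ← smul_tmul]
          have : a • i = 0 := Subtype.ext (Subtype.ext (h.sq _ ha _ i.2))
          rw [this, zero_tmul]
        | zero => rw [tmul_zero]
        | add x y _ _ hx hy => rw [tmul_add, hx, hy, add_zero]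
        | smul c x _ hx =>
          have := congrArg (LinearMap.lTensor I (LinearMap.mulLeft A c)) hx
          simpa using this
      let H : Bb ⊗[Ab] LinearMap.ker f →+ I ⊗[A] B := TensorProduct.liftAddHom
        (AddMonoidHom.mk' (fun e => AddMonoidHom.mk' (fun k : LinearMap.ker f =>
            (⟨⟨((k : J) : B), (hker k).1 k.2⟩, (k : J).2⟩ : I) ⊗ₜ[A] Classical.choose (Ideal.Quotient.mk_surjective e))
            fun k k' => by rw [← add_tmul]; rfl)
          fun e e' => AddMonoidHom.ext fun k => by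
            change _ ⊗ₜ[A] _ = _ ⊗ₜ[A] _ + _ ⊗ₜ[A] _
            rw [← tmul_add, ← sub_eq_zero, ← tmul_sub]
            have hJ := hzero (⟨⟨((k : J) : B), (hker k).1 k.2⟩, (k : J).2⟩ : I)
            refine hJ _ (Ideal.Quotient.eq_zero_iff_mem.1 ?_)
            rw [map_sub, map_add, Classical.choose_spec (Ideal.Quotient.mk_surjective (e + e')),
              Classical.choose_spec (Ideal.Quotient.mk_surjective e),
              Classical.choose_spec (Ideal.Quotient.mk_surjective e'), sub_self])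
        fun r e k => by
          obtain ⟨a, ha⟩ := hψsurj r
          change _ ⊗ₜ[A] _ = (⟨⟨(((r • k : LinearMap.ker f) : J) : B), _⟩, _⟩ : I) ⊗ₜ[A] _
          have e1 : (⟨⟨(((r • k : LinearMap.ker f) : J) : B), (hker _).1 (r • k : LinearMap.ker f).2⟩,
              ((r • k : LinearMap.ker f) : J).2⟩ : I) = a • ⟨⟨((k : J) : B), (hker k).1 k.2⟩, (k : J).2⟩ := by
            refine Subtype.ext (Subtype.ext ?_)
            change ((r • (k : J) : J) : B) = (a : B) * _
            rw [← hsmul]
            congr 1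
            rw [show Ideal.Quotient.mk J (a : B) = algebraMap Ab Bb r by rw [← ha, hψ], algebraMap_smul]
          rw [e1, smul_tmul, ← sub_eq_zero, ← tmul_sub]
          have hJ := hzero (⟨⟨((k : J) : B), (hker k).1 k.2⟩, (k : J).2⟩ : I)
          refine hJ _ (Ideal.Quotient.eq_zero_iff_mem.1 ?_)
          rw [map_sub, Classical.choose_spec (Ideal.Quotient.mk_surjective (r • e)), Algebra.smul_def, Algebra.smul_def,
            map_mul, Classical.choose_spec (Ideal.Quotient.mk_surjective e)]
          rw [show Ideal.Quotient.mk J (algebraMap A B a) = algebraMap Ab Bb r by rw [← ha, hψ]; rfl, sub_self]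
      have hHsurj : Function.Surjective H := by
        intro z
        induction z using TensorProduct.induction_on with
        | zero => exact ⟨0, map_zero _⟩
        | tmul i b =>
          refine ⟨π b ⊗ₜ ⟨⟨((i : A) : B), i.2⟩, (hker _).2 (i : A).2⟩, ?_⟩
          change (⟨⟨((i : A) : B), _⟩, _⟩ : I) ⊗ₜ[A] _ = i ⊗ₜ[A] b
          rw [← sub_eq_zero, ← tmul_sub]
          refine hzero i _ (Ideal.Quotient.eq_zero_iff_mem.1 ?_)
          rw [map_sub, Classical.choose_spec (Ideal.Quotient.mk_surjective (π b)), sub_self]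
        | add x y hx hy =>
          obtain ⟨x, rfl⟩ := hx
          obtain ⟨y, rfl⟩ := hy
          exact ⟨x + y, map_add _ _ _⟩
      have hcomp : ∀ x, TensorProduct.lid A B (LinearMap.rTensor B I.subtype (H x)) = (μ (ι.lTensor Bb x) : B) := by
        intro x
        induction x using TensorProduct.induction_on with
        | zero => simp
        | tmul e k =>
          change TensorProduct.lid A B (LinearMap.rTensor B I.subtype
            ((⟨⟨((k : J) : B), _⟩, _⟩ : I) ⊗ₜ[A] Classical.choose (Ideal.Quotient.mk_surjective e))) = _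
          obtain ⟨c, hc, rfl⟩ : ∃ c, c = Classical.choose (Ideal.Quotient.mk_surjective e) ∧ π c = e :=
            ⟨_, rfl, Classical.choose_spec (Ideal.Quotient.mk_surjective e)⟩
          rw [LinearMap.rTensor_tmul, TensorProduct.lid_tmul, ← hc]
          change ((k : J) : B) * c = c * ((k : J) : B)
          exact mul_comm _ _
        | add x y hx hy => simp only [map_add, hx, hy, Submodule.coe_add]
      intro a b hab
      obtain ⟨a, rfl⟩ := hHsurj a
      obtain ⟨b, rfl⟩ := hHsurj b
      congr 1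
      exact hμι (Subtype.ext (by simp only [LinearMap.comp_apply, ← hcomp, hab]))
    · -- flatness modulo `I`
      let e : (A ⧸ I) ≃+* Ab :=
        (Ideal.quotEquivOfEq hψker.symm).trans (RingHom.quotientKerEquivOfSurjective hψsurj)
      let _ : Algebra (A ⧸ I) Bb := ((algebraMap Ab Bb).comp e.toRingHom).toAlgebra
      have hflat : Module.Flat (A ⧸ I) Bb :=
        RingHom.Flat.comp (RingHom.Flat.of_bijective e.bijective)
          (RingHom.flat_algebraMap_iff.2 inferInstance)
      have htower : IsScalarTower A (A ⧸ I) Bb := IsScalarTower.of_algebraMap_eq (R := A) (S := A ⧸ I) (A := Bb) fun a =>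
        (hψ a).symm
      let πl : B →ₗ[A] Bb := (Ideal.Quotient.mkₐ A J).toLinearMap
      let q : (A ⧸ I) ⊗[A] B →ₗ[A ⧸ I] Bb :=
        AlgebraTensorModule.lift (LinearMap.toSpanSingleton (A ⧸ I) (B →ₗ[A] Bb) πl)
      have hq : ∀ b : B, q (1 ⊗ₜ b) = π b := fun b => by simp [q, πl, π]
      refine Module.Flat.of_linearEquiv (LinearEquiv.ofBijective q ⟨?_, fun x => ?_⟩)
      · have hone : ∀ z : (A ⧸ I) ⊗[A] B, ∃ b, z = 1 ⊗ₜ b := by
          intro z
          induction z using TensorProduct.induction_on with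
          | zero => exact ⟨0, by rw [tmul_zero]⟩
          | tmul x b =>
            obtain ⟨a, rfl⟩ := Ideal.Quotient.mk_surjective x
            exact ⟨a • b, by rw [← smul_tmul]; congr 1; rw [Algebra.smul_def, mul_one]; rfl⟩
          | add x y hx hy =>
            obtain ⟨a, rfl⟩ := hx
            obtain ⟨b, rfl⟩ := hy
            exact ⟨a + b, (tmul_add _ _ _).symm⟩
        rw [← LinearMap.ker_eq_bot, Submodule.eq_bot_iff]
        intro z hz
        obtain ⟨b, rfl⟩ := hone z
        have hb : b ∈ I.map (algebraMap A B) := by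
          rw [hIB]
          exact Ideal.Quotient.eq_zero_iff_mem.1 ((hq b).symm.trans (LinearMap.mem_ker.1 hz))
        clear hz
        rw [Ideal.map] at hb
        induction hb using Submodule.span_induction with
        | mem x hx =>
          obtain ⟨a, ha, rfl⟩ := hx
          rw [show algebraMap A B a = a • (1 : B) by rw [Algebra.smul_def, mul_one], ← smul_tmul,
            Algebra.smul_def, mul_one, show algebraMap A (A ⧸ I) a = 0 from Ideal.Quotient.eq_zero_iff_mem.2 ha,
            zero_tmul]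
        | zero => rw [tmul_zero]
        | add x y _ _ hx hy => rw [tmul_add, hx, hy, add_zero]
        | smul c x _ hx =>
          have := congrArg (LinearMap.lTensor (A ⧸ I) (LinearMap.mulLeft A c)) hx
          simpa using this
      · obtain ⟨b, rfl⟩ := Ideal.Quotient.mk_surjective x
        exact ⟨_, hq b⟩

end Datum

end Groth.Agent.AlgSpB.SqZero
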