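import Groth.Agent.AlgSpB.IdealApprox.SqZeroAffine
import Groth.Agent.AffThick.Nil
import Groth.Agent.AlgSp.Space
import Groth.Agent.AlgSpB.Open
import Groth.Agent.AlgSp.CartierDesc
import Mathlib.CategoryTheory.Sites.RegularEpi
import Mathlib.AlgebraicGeometry.Sites.Fpqc
import Mathlib.AlgebraicGeometry.Morphisms.LocalFlatDescent

/-!
# A square zero thickening of an affine scheme is an affine scheme
-/

universe u

open CategoryTheory CategoryTheory.Limits AlgebraicGeometry TensorProduct

set_option backward.isDefEq.respectTransparency false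
set_option backward.isDefEq.respectTransparency.types false
set_option autoImplicit false
set_option maxHeartbeats 2000000

namespace Groth.Agent.AlgSpB.SqZero

open _root_.AlgSp

/-- The spectrum of a faithfully flat square zero covering surjects on that of the invariants. -/
theorem surjective_comap {Ab B : Type u} [CommRing Ab] [CommRing B] (J : Ideal B) [Algebra Ab (B ⧸ J)]
    [Module.FaithfullyFlat Ab (B ⧸ J)] (hJ : ∀ a ∈ J, ∀ b ∈ J, a * b = 0) (A : Subring B)
    (h₁ : ∀ a ∈ A, ∃ r, algebraMap Ab (B ⧸ J) r = Ideal.Quotient.mk J a)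
    (h₂ : ∀ r, ∃ a ∈ A, algebraMap Ab (B ⧸ J) r = Ideal.Quotient.mk J a) :
    Function.Surjective (PrimeSpectrum.comap A.subtype) := by
  intro P
  have hinj : Function.Injective (algebraMap Ab (B ⧸ J)) := FaithfulSMul.algebraMap_injective _ _
  choose ψ₀ hψ₀ using h₁
  let ψ : A →+* Ab :=
    { toFun := fun a => ψ₀ a.1 a.2
      map_one' := hinj (by rw [hψ₀, map_one]; exact map_one _)
      map_zero' := hinj (by rw [hψ₀, map_zero]; exact map_zero _)
      map_mul' := fun a b => hinj (by rw [map_mul, hψ₀, hψ₀, hψ₀]; exact map_mul _ _ _)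
      map_add' := fun a b => hinj (by rw [map_add, hψ₀, hψ₀, hψ₀]; exact map_add _ _ _) }
  have hψ : ∀ a : A, algebraMap Ab (B ⧸ J) (ψ a) = Ideal.Quotient.mk J a.1 := fun a => hψ₀ _ _
  have hψs : Function.Surjective ψ := fun r => by
    obtain ⟨a, ha, hr⟩ := h₂ r
    exact ⟨⟨a, ha⟩, hinj (by rw [hψ, hr])⟩
  have hker : RingHom.ker ψ ≤ P.asIdeal := fun a ha => by
    have h : (a : B) ∈ J := Ideal.Quotient.eq_zero_iff_mem.1 (by rw [← hψ, RingHom.mem_ker.1 ha, map_zero])
    have h0 : a * a = 0 := Subtype.ext (hJ _ h _ h)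
    exact (P.2.mem_or_mem (h0 ▸ P.asIdeal.zero_mem)).elim id id
  let P' : PrimeSpectrum Ab := ⟨P.asIdeal.map ψ, Ideal.map_isPrime_of_surjective hψs hker⟩
  obtain ⟨Q, hQ⟩ := PrimeSpectrum.comap_surjective_of_faithfullyFlat (A := Ab) (B := B ⧸ J) P'
  refine ⟨PrimeSpectrum.comap (Ideal.Quotient.mk J) Q, PrimeSpectrum.ext (Ideal.ext fun a => ?_)⟩
  change Ideal.Quotient.mk J a.1 ∈ Q.asIdeal ↔ a ∈ P.asIdeal
  rw [← hψ]
  change ψ a ∈ (PrimeSpectrum.comap (algebraMap Ab (B ⧸ J)) Q).asIdeal ↔ _
  rw [hQ]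
  refine ⟨fun h => ?_, fun h => Ideal.mem_map_of_mem _ h⟩
  obtain ⟨b, hb, hb'⟩ := (Ideal.mem_map_iff_of_surjective ψ hψs).1 h
  have : a - b ∈ P.asIdeal := hker (by rw [RingHom.mem_ker, map_sub, hb', sub_self])
  simpa using P.asIdeal.add_mem this hb

variable {S : Scheme.{u}}

/-- A square zero thickening of an affine scheme is an affine scheme, in terms of an atlas. -/
theorem exists_iso_yon_of_sqZero {X : Sp S} {T₀ U U₀ R : Over S} [IsAffine T₀.left] [IsAffine U.left]
    {i : (yon S).obj T₀ ⟶ X} {p : (yon S).obj U ⟶ X} (hp : RepWith @Etale p) (hps : RepWith @Surjective p)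
    {p₀ : U₀ ⟶ T₀} {j : U₀ ⟶ U} [IsClosedImmersion j.left] [Surjective j.left]
    (sqI : IsPullback ((yon S).map p₀) ((yon S).map j) i p)
    (hsq : ∀ a ∈ RingHom.ker j.left.appTop.hom, ∀ b ∈ RingHom.ker j.left.appTop.hom, a * b = 0)
    {t s : R ⟶ U} (sq : IsPullback ((yon S).map t) ((yon S).map s) p p) :
    ∃ T : Over S, IsAffine T.left ∧ Nonempty ((yon S).obj T ≅ X) := by
  have : Etale p₀.left := hp.2 _ _ _ sqI.flip
  have : Surjective p₀.left := hps.2 _ _ _ sqI.flip
  have : Etale t.left := hp.2 _ _ _ sq.flip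
  have : Etale s.left := hp.2 _ _ _ sq
  have : IsAffine U₀.left := isAffine_of_isAffineHom j.left
  -- the double fibre product downstairs
  have sq₀ := IsPullback.of_hasPullback p₀ p₀
  let R₀ := pullback p₀ p₀
  let a₀ : R₀ ⟶ U₀ := pullback.fst p₀ p₀
  let b₀ : R₀ ⟶ U₀ := pullback.snd p₀ p₀
  have hw : (yon S).map (b₀ ≫ j) ≫ p = (yon S).map (a₀ ≫ j) ≫ p := by
    simp only [Functor.map_comp, Category.assoc, ← sqI.w]
    rw [← Functor.map_comp_assoc, ← Functor.map_comp_assoc]
    exact congrArg (fun f => (yon S).map f ≫ i) pullback.condition.symm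
  obtain ⟨k, hk⟩ := (yon S).map_surjective (sq.lift _ _ hw)
  have hkt : k ≫ t = b₀ ≫ j := (yon S).map_injective (by rw [Functor.map_comp, hk, sq.lift_fst])
  have hks : k ≫ s = a₀ ≫ j := (yon S).map_injective (by rw [Functor.map_comp, hk, sq.lift_snd])
  have sqK : IsPullback k b₀ t j := by
    refine IsPullback.of_map (yon S) hkt (IsPullback.of_right ?_ (by rw [← Functor.map_comp, hkt, Functor.map_comp]) sq.flip)
    rw [← Functor.map_comp, hks, Functor.map_comp, ← sqI.w]
    exact (sq₀.map (yon S)).paste_horiz sqI.flip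
  have sqKl : IsPullback k.left b₀.left t.left j.left := sqK.map (Over.forget S)
  have sq₀l : IsPullback a₀.left b₀.left p₀.left p₀.left := sq₀.map (Over.forget S)
  have : IsClosedImmersion k.left := MorphismProperty.of_isPullback (P := @IsClosedImmersion) sqKl.flip inferInstance
  have : Surjective k.left := MorphismProperty.of_isPullback (P := @Surjective) sqKl.flip inferInstance
  have : IsAffine R₀.left := .of_isIso sq₀l.isoPullback.hom
  have : IsAffine R.left := Groth.Agent.AffThick.isAffine_of_surjective k.left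
  -- the triple fibre products
  have sq₂ := IsPullback.of_hasPullback t s
  let R₂ := pullback t s
  let δ₂ : R₂ ⟶ R := pullback.fst t s
  let δ₀ : R₂ ⟶ R := pullback.snd t s
  have hw₂ : (yon S).map (δ₀ ≫ t) ≫ p = (yon S).map (δ₂ ≫ s) ≫ p := by
    simp only [Functor.map_comp, Category.assoc, sq.w]
    rw [← Functor.map_comp_assoc, show δ₀ ≫ s = δ₂ ≫ t from pullback.condition.symm, Functor.map_comp_assoc, sq.w]
  obtain ⟨δ₁, hδ₁⟩ := (yon S).map_surjective (sq.lift _ _ hw₂)
  have hδ₁t : δ₁ ≫ t = δ₀ ≫ t := (yon S).map_injective (by rw [Functor.map_comp, hδ₁, sq.lift_fst])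
  have hδ₁s : δ₁ ≫ s = δ₂ ≫ s := (yon S).map_injective (by rw [Functor.map_comp, hδ₁, sq.lift_snd])
  have sq₂₀ := IsPullback.of_hasPullback (b₀ ≫ p₀) p₀
  let R₂₀ := pullback (b₀ ≫ p₀) p₀
  let f₂₀ : R₂₀ ⟶ R₀ := pullback.fst (b₀ ≫ p₀) p₀
  let g₂₀ : R₂₀ ⟶ U₀ := pullback.snd (b₀ ≫ p₀) p₀
  let q₁₂ : R₂₀ ⟶ R₀ := pullback.lift (f₂₀ ≫ b₀) g₂₀ (by rw [Category.assoc]; exact pullback.condition)
  have hq₁ : q₁₂ ≫ a₀ = f₂₀ ≫ b₀ := pullback.lift_fst _ _ _
  have hq₂ : q₁₂ ≫ b₀ = g₂₀ := pullback.lift_snd _ _ _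
  have S1 : IsPullback f₂₀ q₁₂ b₀ a₀ := IsPullback.of_bot (by rw [hq₂]; exact sq₂₀) hq₁.symm sq₀
  have S2 : IsPullback (f₂₀ ≫ k) q₁₂ t (k ≫ s) := by rw [hks]; exact S1.paste_horiz sqK
  have hw₃ : (f₂₀ ≫ k) ≫ t = (q₁₂ ≫ k) ≫ s := by rw [S2.w, Category.assoc]
  let k₂ : R₂₀ ⟶ R₂ := pullback.lift (f₂₀ ≫ k) (q₁₂ ≫ k) hw₃
  have hk₂₂ : k₂ ≫ δ₂ = f₂₀ ≫ k := pullback.lift_fst _ _ _
  have hk₂₀ : k₂ ≫ δ₀ = q₁₂ ≫ k := pullback.lift_snd _ _ _
  have S3 : IsPullback k₂ q₁₂ δ₀ k := IsPullback.of_right (by rw [hk₂₂]; exact S2) hk₂₀ sq₂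
  have S4 : IsPullback k₂ g₂₀ (δ₀ ≫ t) j := by rw [← hq₂]; exact S3.paste_vert sqK
  have sq₂l : IsPullback δ₂.left δ₀.left t.left s.left := sq₂.map (Over.forget S)
  have : Etale δ₀.left := MorphismProperty.of_isPullback (P := @Etale) sq₂l inferInstance
  have : IsAffine R₂.left := .of_isIso sq₂l.isoPullback.hom
  have : Flat (δ₀ ≫ t).left := inferInstanceAs (Flat (δ₀.left ≫ t.left))
  -- the rings
  let B := Γ(U.left, ⊤)
  let J : Ideal B := RingHom.ker j.left.appTop.hom
  let eU : B ⧸ J ≃+* Γ(U₀.left, ⊤) :=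
    RingHom.quotientKerEquivOfSurjective (j.left.app_surjective ⊤ (isAffineOpen_top _))
  have heU : ∀ b, eU (Ideal.Quotient.mk J b) = j.left.appTop.hom b := fun b => rfl
  let _ : Algebra Γ(T₀.left, ⊤) (B ⧸ J) := (eU.symm.toRingHom.comp p₀.left.appTop.hom).toAlgebra
  have halg : ∀ r, eU (algebraMap Γ(T₀.left, ⊤) (B ⧸ J) r) = p₀.left.appTop.hom r := fun r =>
    eU.apply_symm_apply _
  have hff : Module.FaithfullyFlat Γ(T₀.left, ⊤) (B ⧸ J) := by
    rw [← RingHom.faithfullyFlat_algebraMap_iff, RingHom.algebraMap_toAlgebra]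
    have h := (Flat.flat_and_surjective_iff_faithfullyFlat_of_isAffine p₀.left).1 ⟨inferInstance, inferInstance⟩
    exact RingHom.FaithfullyFlat.stableUnderComposition _ _ h (RingHom.FaithfullyFlat.of_bijective eU.symm.bijective)
  obtain ⟨e₁, he₁a, he₁b⟩ := exists_tensor_iso sq₀l eU eU (RingEquiv.refl _) halg halg
  have sq₂₀l : IsPullback f₂₀.left g₂₀.left (b₀.left ≫ p₀.left) p₀.left := sq₂₀.map (Over.forget S)
  obtain ⟨e₂, he₂a, he₂b⟩ := exists_tensor_iso sq₂₀l e₁.symm eU (RingEquiv.refl _) (A := (B ⧸ J) ⊗[Γ(T₀.left, ⊤)] (B ⧸ J)) (fun r => by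
    apply e₁.injective
    rw [RingEquiv.apply_symm_apply, RingEquiv.refl_apply, Scheme.Hom.comp_appTop, CommRingCat.hom_comp,
      RingHom.comp_apply, ← halg, he₁b, Algebra.TensorProduct.algebraMap_apply, Algebra.algebraMap_eq_smul_one,
      TensorProduct.smul_tmul]) halg
  let ρ := e₁.toRingHom.comp k.left.appTop.hom
  let ρ₂ := e₂.toRingHom.comp k₂.left.appTop.hom
  obtain ⟨e, he, hes⟩ := sq.exists_lift (𝟙 _) (𝟙 _) rfl
  obtain ⟨e, rfl⟩ := (yon S).map_surjective e
  have hεt : e ≫ t = 𝟙 _ := (yon S).map_injective (by rw [Functor.map_comp, he, CategoryTheory.Functor.map_id])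
  have hεs : e ≫ s = 𝟙 _ := (yon S).map_injective (by rw [Functor.map_comp, hes, CategoryTheory.Functor.map_id])
  let dg : U₀ ⟶ R₀ := pullback.lift (𝟙 _) (𝟙 _) rfl
  have hdga : dg ≫ a₀ = 𝟙 _ := pullback.lift_fst _ _ _
  have hdgb : dg ≫ b₀ = 𝟙 _ := pullback.lift_snd _ _ _
  have hdg : j ≫ e = dg ≫ k := (yon S).map_injective <| sq.hom_ext
    (by rw [← Functor.map_comp, ← Functor.map_comp, Category.assoc, Category.assoc, hεt, hkt, reassoc_of% hdgb, Category.comp_id])
    (by rw [← Functor.map_comp, ← Functor.map_comp, Category.assoc, Category.assoc, hεs, hks, reassoc_of% hdga, Category.comp_id])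
  have hEq : ∀ {P Q : Over S} {f g : P ⟶ Q}, f = g → ∀ x, f.left.appTop.hom x = g.left.appTop.hom x :=
    fun h x => by rw [h]
  have hdatum : Datum t.left.appTop.hom s.left.appTop.hom e.left.appTop.hom δ₀.left.appTop.hom δ₁.left.appTop.hom
      δ₂.left.appTop.hom ρ ρ₂ :=
    { sq := hsq
      lift := isFlatLift_of_isPullback sqKl eU heU e₁ he₁b
      lift₂ := isFlatLift_of_isPullback (g := (δ₀ ≫ t).left)
        (show IsPullback k₂.left g₂₀.left (δ₀ ≫ t).left j.left from S4.map (Over.forget S)) eU heU e₂ he₂b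
      ρ_s := fun b => by
        rw [← he₁a, heU]
        exact congrArg e₁ (hEq hks b)
      ρ₂_d₂ := fun c => by
        rw [← he₂a]
        change e₂ (k₂.left.appTop.hom (δ₂.left.appTop.hom c)) = e₂ (f₂₀.left.appTop.hom (e₁.symm (e₁ (k.left.appTop.hom c))))
        rw [RingEquiv.symm_apply_apply]
        exact congrArg e₂ (hEq hk₂₂ c)
      ρ_ε := fun c => by
        apply eU.injective
        rw [heU]
        change (j ≫ e).left.appTop.hom c = eU (Algebra.TensorProduct.lmul' _ (e₁ (k.left.appTop.hom c)))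
        rw [hEq hdg c]
        change dg.left.appTop.hom (k.left.appTop.hom c) = _
        obtain ⟨z, hz⟩ := e₁.symm.surjective (k.left.appTop.hom c)
        rw [← hz, RingEquiv.apply_symm_apply]
        clear hz
        induction z using TensorProduct.induction_on with
        | zero => simp
        | tmul x y =>
          rw [Algebra.TensorProduct.lmul'_apply_tmul, map_mul eU]
          have : e₁.symm (x ⊗ₜ y) = a₀.left.appTop.hom (eU x) * b₀.left.appTop.hom (eU y) := by
            apply e₁.injective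
            rw [RingEquiv.apply_symm_apply, map_mul, he₁a, he₁b, Algebra.TensorProduct.tmul_mul_tmul, mul_one, one_mul]
          rw [this, map_mul]
          congr 1
          · exact (hEq hdga _).trans (by rw [Over.id_left, Scheme.Hom.id_appTop]; rfl)
          · exact (hEq hdgb _).trans (by rw [Over.id_left, Scheme.Hom.id_appTop]; rfl)
        | add x y hx hy => rw [map_add, map_add, map_add, map_add, hx, hy]
      ε_t := fun b => (hEq hεt b).trans (by rw [Over.id_left, Scheme.Hom.id_appTop]; rfl)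
      ε_s := fun b => (hEq hεs b).trans (by rw [Over.id_left, Scheme.Hom.id_appTop]; rfl)
      face₁₂ := fun b => (hEq hδ₁t b).symm
      face₀₂ := fun b => hEq hδ₁s b
      face₀₁ := fun b => (hEq (pullback.condition : δ₂ ≫ t = δ₀ ≫ s) b).symm }
  obtain ⟨hlift, hspan, hflat⟩ := hdatum.main
  -- the quotient
  let A := RingHom.eqLocus t.left.appTop.hom s.left.appTop.hom
  let TA : Scheme.{u} := Spec (CommRingCat.of A)
  let q₀ : U.left ⟶ TA := U.left.isoSpec.hom ≫ Spec.map (CommRingCat.ofHom A.subtype)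
  have : Flat (Spec.map (CommRingCat.ofHom A.subtype)) := HasRingHomProperty.Spec_iff.2 hflat
  have : Surjective (Spec.map (CommRingCat.ofHom A.subtype)) := ⟨by
    refine surjective_comap (Ab := Γ(T₀.left, ⊤)) J hsq A (fun a ha => ?_) (fun r => ?_)
    · refine (WittExt.Amitsur.exists_of_invariant (A := Γ(T₀.left, ⊤)) (B := B ⧸ J) (b := Ideal.Quotient.mk J a) ?_)
      rw [← hdatum.ρ_s, ← hdatum.lift.comp, show t.left.appTop.hom a = s.left.appTop.hom a from ha]
    · obtain ⟨b, hb, hb'⟩ := hlift r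
      exact ⟨b, hb, hb'.symm⟩⟩
  have hq : t.left ≫ q₀ = s.left ≫ q₀ := by
    refine ext_of_isAffine ?_
    simp only [q₀, Scheme.Hom.comp_appTop]
    ext x
    simp only [CommRingCat.hom_comp, RingHom.comp_apply]
    have : ((U.left.isoSpec.hom.appTop).hom ((Spec.map (CommRingCat.ofHom A.subtype)).appTop.hom x)) ∈ A := by
      have hx := congr($(Scheme.ΓSpecIso_naturality (CommRingCat.ofHom A.subtype)).hom x)
      simp only [CommRingCat.hom_comp, RingHom.comp_apply, CommRingCat.hom_ofHom] at hx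
      rw [Scheme.isoSpec_hom, Scheme.toSpecΓ_appTop]
      erw [hx]
      exact Subtype.mem _
    exact this
  -- the fibre square
  have hP : IsPullback t.left s.left q₀ q₀ := by
    let l := pullback.lift t.left s.left hq
    suffices IsIso l from IsPullback.of_iso_pullback ⟨hq⟩ (asIso l) (pullback.lift_fst _ _ _) (pullback.lift_snd _ _ _)
    let fst := pullback.fst q₀ q₀
    let snd := pullback.snd q₀ q₀
    let C := Γ(R.left, ⊤)
    let _ : Algebra B Γ(pullback q₀ q₀, ⊤) := snd.appTop.hom.toAlgebra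
    let _ : Algebra B C := s.left.appTop.hom.toAlgebra
    have : Module.Flat B C := by
      have := HasRingHomProperty.appLE @Flat s.left inferInstance ⟨⊤, isAffineOpen_top _⟩ ⟨⊤, isAffineOpen_top _⟩ le_rfl
      change (s.left.app ⊤).hom.Flat
      rw [Scheme.Hom.app_eq_appLE]
      exact this
    let ψ : Γ(pullback q₀ q₀, ⊤) →ₐ[B] C :=
      { l.appTop.hom with
        commutes' := fun b => congr($(congrArg Scheme.Hom.appTop (pullback.lift_snd _ _ hq)).hom b) }
    have hψt : ∀ b, ψ (fst.appTop.hom b) = t.left.appTop.hom b := fun b =>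
      congr($(congrArg Scheme.Hom.appTop (pullback.lift_fst _ _ hq)).hom b)
    let P := Γ(pullback q₀ q₀, ⊤)
    -- invariance of the ideal
    have hsJ : J.map (algebraMap B C) = J.map t.left.appTop.hom := le_antisymm
      (Ideal.map_le_iff_le_comap.2 fun b hb => by
        rw [← hdatum.lift.ker_eq, Ideal.mem_comap, RingHom.mem_ker]
        exact (hdatum.ρ_s b).trans (by rw [Ideal.Quotient.eq_zero_iff_mem.2 hb, zero_tmul]))
      (Ideal.map_le_iff_le_comap.2 fun b hb => by
        refine (Ideal.span_le (I := (J.map (algebraMap B C)).comap t.left.appTop.hom)).2 ?_ (hspan hb)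
        rintro c ⟨hc, hc'⟩
        rw [SetLike.mem_coe, Ideal.mem_comap, hc']
        exact Ideal.mem_map_of_mem _ hc)
    have hPJ : J.map fst.appTop.hom = J.map (algebraMap B P) := by
      have key : ∀ c, t.left.appTop.hom c = s.left.appTop.hom c → fst.appTop.hom c = snd.appTop.hom c := by
        intro c hc
        obtain ⟨x, hx⟩ : ∃ x, q₀.appTop.hom x = c := by
          refine ⟨(Scheme.ΓSpecIso _).inv.hom (⟨c, hc⟩ : A), ?_⟩
          have h1 := congr($(Scheme.ΓSpecIso_inv_naturality (CommRingCat.ofHom A.subtype)).hom ⟨c, hc⟩)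
          simp only [CommRingCat.hom_comp, RingHom.comp_apply, CommRingCat.hom_ofHom] at h1
          simp only [q₀, Scheme.Hom.comp_appTop, CommRingCat.hom_comp, RingHom.comp_apply]
          erw [← h1]
          rw [Scheme.isoSpec_hom, Scheme.toSpecΓ_appTop]
          exact congr($((Scheme.ΓSpecIso B).inv_hom_id).hom c)
        rw [← hx]
        exact congr($(congrArg Scheme.Hom.appTop (pullback.condition (f := q₀) (g := q₀))).hom x)
      apply le_antisymm <;> refine Ideal.map_le_iff_le_comap.2 fun b hb => ?_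
      · refine (Ideal.span_le (I := (J.map (algebraMap B P)).comap fst.appTop.hom)).2 ?_ (hspan hb)
        rintro c ⟨hc, hc'⟩
        rw [SetLike.mem_coe, Ideal.mem_comap, key c hc']
        exact Ideal.mem_map_of_mem _ hc
      · refine (Ideal.span_le (I := (J.map fst.appTop.hom).comap (algebraMap B P))).2 ?_ (hspan hb)
        rintro c ⟨hc, hc'⟩
        rw [SetLike.mem_coe, Ideal.mem_comap, show algebraMap B P c = fst.appTop.hom c from (key c hc').symm]
        exact Ideal.mem_map_of_mem _ hc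
    -- elementary tensors
    have hgen : ∀ z : (B ⧸ J) ⊗[Γ(T₀.left, ⊤)] (B ⧸ J), ∃ p, ρ (ψ p) = z := by
      intro z
      induction z using TensorProduct.induction_on with
      | zero => exact ⟨0, by rw [map_zero ψ, map_zero ρ]⟩
      | tmul x y =>
        obtain ⟨x, rfl⟩ := Ideal.Quotient.mk_surjective x
        obtain ⟨y, rfl⟩ := Ideal.Quotient.mk_surjective y
        refine ⟨algebraMap B P x * fst.appTop.hom y, ?_⟩
        rw [map_mul ψ, map_mul ρ, AlgHom.commutes, hψt, hdatum.lift.comp]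
        erw [hdatum.ρ_s]
        rw [Algebra.TensorProduct.tmul_mul_tmul, mul_one, one_mul]
      | add x y hx hy =>
        obtain ⟨a, rfl⟩ := hx
        obtain ⟨b, rfl⟩ := hy
        exact ⟨a + b, by rw [map_add ψ, map_add ρ]⟩
    have hbij : Function.Bijective ψ := by
      refine bijective_of_flat_sqZero ψ J hsq (fun c => ?_) (fun p hp => ?_)
      · obtain ⟨p, hp⟩ := hgen (ρ c)
        refine ⟨p, ?_⟩
        rw [hsJ, ← hdatum.lift.ker_eq, RingHom.mem_ker, map_sub, hp, sub_self]
      · -- a left inverse modulo the ideal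
        let Pb := P ⧸ J.map (algebraMap B P)
        let π := Ideal.Quotient.mk (J.map (algebraMap B P))
        let _ : Algebra Γ(T₀.left, ⊤) Pb :=
          (((Ideal.quotientMap (J.map (algebraMap B P)) (algebraMap B P) Ideal.le_comap_map)).comp
            (algebraMap Γ(T₀.left, ⊤) (B ⧸ J))).toAlgebra
        let gs : B ⧸ J →ₐ[Γ(T₀.left, ⊤)] Pb :=
          { Ideal.quotientMap (J.map (algebraMap B P)) (algebraMap B P) Ideal.le_comap_map with
            commutes' := fun r => rfl }
        let gt : B ⧸ J →ₐ[Γ(T₀.left, ⊤)] Pb :=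
          { Ideal.quotientMap (J.map (algebraMap B P)) fst.appTop.hom (by
              rw [← hPJ]; exact Ideal.le_comap_map) with
            commutes' := fun r => by
              obtain ⟨b, hb, hb'⟩ := hlift r
              rw [← gs.commutes r, ← hb']
              change π (fst.appTop.hom b) = π (algebraMap B P b)
              congr 1
              obtain ⟨x, hx⟩ : ∃ x, q₀.appTop.hom x = b := by
                refine ⟨(Scheme.ΓSpecIso _).inv.hom (⟨b, hb⟩ : A), ?_⟩
                have h1 := congr($(Scheme.ΓSpecIso_inv_naturality (CommRingCat.ofHom A.subtype)).hom ⟨b, hb⟩)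
                simp only [CommRingCat.hom_comp, RingHom.comp_apply, CommRingCat.hom_ofHom] at h1
                simp only [q₀, Scheme.Hom.comp_appTop, CommRingCat.hom_comp, RingHom.comp_apply]
                erw [← h1]
                rw [Scheme.isoSpec_hom, Scheme.toSpecΓ_appTop]
                exact congr($((Scheme.ΓSpecIso B).inv_hom_id).hom b)
              rw [← hx]
              exact congr($(congrArg Scheme.Hom.appTop (pullback.condition (f := q₀) (g := q₀))).hom x) }
        let m := Algebra.TensorProduct.lift gs gt fun _ _ => mul_comm _ _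
        have hpo := isPushout_appTop_of_isPullback (IsPullback.of_hasPullback q₀ q₀)
        have hm : ((m.toRingHom.comp ρ).comp ψ.toRingHom) = π := by
          have := hpo.hom_ext (k := CommRingCat.ofHom ((m.toRingHom.comp ρ).comp ψ.toRingHom)) (l := CommRingCat.ofHom π) ?_ ?_
          · exact congrArg CommRingCat.Hom.hom this
          · ext b
            change m (ρ (ψ (fst.appTop.hom b))) = π (fst.appTop.hom b)
            rw [hψt, hdatum.lift.comp, Algebra.TensorProduct.lift_tmul, map_one gs, one_mul]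
            rfl
          · ext b
            change m (ρ (ψ (algebraMap B P b))) = π (algebraMap B P b)
            rw [AlgHom.commutes]
            erw [hdatum.ρ_s]
            rw [Algebra.TensorProduct.lift_tmul, map_one gt, mul_one]
            rfl
        rw [← Ideal.Quotient.eq_zero_iff_mem]
        have h1 := congr($hm p)
        rw [RingHom.comp_apply, RingHom.comp_apply] at h1
        rw [← h1]
        rw [hsJ, ← hdatum.lift.ker_eq, RingHom.mem_ker] at hp
        exact (congrArg m hp).trans (map_zero m)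
    have : IsIso l.appTop := ConcreteCategory.isIso_iff_bijective _ |>.2 hbij
    have hl := Scheme.isoSpec_hom_naturality l
    rw [eq_comm, ← Iso.eq_comp_inv, Category.assoc] at hl
    rw [hl]
    infer_instance
  have : Flat q₀ := inferInstanceAs (Flat (U.left.isoSpec.hom ≫ _))
  have : Surjective q₀ := inferInstanceAs (Surjective (U.left.isoSpec.hom ≫ _))
  have : QuasiCompact q₀ := inferInstance
  have hqe : Etale q₀ := MorphismProperty.of_isPullback_of_descendsAlong (Q := @Surjective ⊓ @Flat ⊓ @QuasiCompact)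
    hP ⟨⟨inferInstance, inferInstance⟩, inferInstance⟩ (inferInstance : Etale t.left)
  -- the structure map
  have hTw : ∀ {Z : Scheme.{u}} (g₁ g₂ : Z ⟶ U.left), g₁ ≫ q₀ = g₂ ≫ q₀ → g₁ ≫ U.hom = g₂ ≫ U.hom := fun g₁ g₂ w => by
    obtain ⟨m, h₁, h₂⟩ := hP.exists_lift g₁ g₂ w
    rw [← h₁, ← h₂, Category.assoc, Category.assoc, Over.w t, Over.w s]
  let T : Over S := Over.mk (EffectiveEpi.desc q₀ U.hom fun g₁ g₂ w => hTw g₁ g₂ w)
  let q : U ⟶ T := Over.homMk q₀ (EffectiveEpi.fac q₀ U.hom fun g₁ g₂ w => hTw g₁ g₂ w)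
  have hPo : IsPullback t s q q := IsPullback.of_map (Over.forget S) (Over.OverMorphism.ext hq) hP
  have hqE : RepWith @Etale ((yon S).map q) := (repWith_yon_map_iff _ _).2 hqe
  have hqS : RepWith @Surjective ((yon S).map q) := (repWith_yon_map_iff _ _).2 (inferInstance : Surjective q₀)
  have := Groth.Agent.AlgSp.isLocallySurjective_of_etale_surjective p hp hps
  have := Groth.Agent.AlgSp.isLocallySurjective_of_etale_surjective ((yon S).map q) hqE hqS
  have : Epi p := (Sheaf.isLocallySurjective_iff_epi _).1 inferInstance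
  have : Epi ((yon S).map q) := (Sheaf.isLocallySurjective_iff_epi _).1 inferInstance
  have hkp : IsKernelPair p ((yon S).map t) ((yon S).map s) := sq
  have hkq : IsKernelPair ((yon S).map q) ((yon S).map t) ((yon S).map s) := hPo.map (yon S)
  have : IsRegularEpi p := IsRegularEpiCategory.regularEpiOfEpi p
  have : IsRegularEpi ((yon S).map q) := IsRegularEpiCategory.regularEpiOfEpi _
  let f := hkq.toCoequalizer'.desc (Cofork.ofπ p sq.w)
  let g := hkp.toCoequalizer'.desc (Cofork.ofπ ((yon S).map q) hkq.w)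
  have hf : (yon S).map q ≫ f = p := Cofork.IsColimit.π_desc hkq.toCoequalizer'
  have hg : p ≫ g = (yon S).map q := Cofork.IsColimit.π_desc hkp.toCoequalizer'
  exact ⟨T, inferInstanceAs (IsAffine (Spec (CommRingCat.of A))),
    ⟨⟨f, g, (cancel_epi ((yon S).map q)).1 (by rw [reassoc_of% hf, hg, Category.comp_id]),
      (cancel_epi p).1 (by rw [reassoc_of% hg, hf, Category.comp_id])⟩⟩⟩

end Groth.Agent.AlgSpB.SqZero
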