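import Mathlib.RingTheory.Flat.Basic
import Mathlib.RingTheory.Ideal.Quotient.Operations
import Mathlib.RingTheory.RingHom.Flat
import Mathlib.RingTheory.TensorProduct.Basic
import Mathlib.Algebra.Module.Torsion.Basic

/-!
# The kernel of a flat base change of a square zero extension
-/

universe u

open TensorProduct

set_option autoImplicit false

namespace Groth.Agent.AlgSpB.SqZero

variable {Ab B D : Type u} [CommRing Ab] [CommRing B] [CommRing D] {J : Ideal B} [Algebra Ab (B ⧸ J)]
  [Module (B ⧸ J) J] [Module Ab J] [IsScalarTower Ab (B ⧸ J) J]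
  (hsmul : ∀ (b : B) (m : J), ((Ideal.Quotient.mk J b • m : J) : B) = b * m)
  {E : Type u} [CommRing E] [Algebra Ab E]

/-- The data of a flat base change of a square zero extension. -/
structure IsFlatLift (φ : B →+* D) (ρ : D →+* E ⊗[Ab] (B ⧸ J)) : Prop where
  flat : φ.Flat
  surj : Function.Surjective ρ
  ker_eq : RingHom.ker ρ = J.map φ
  comp : ∀ b, ρ (φ b) = 1 ⊗ₜ Ideal.Quotient.mk J b

variable {φ : B →+* D} {ρ : D →+* E ⊗[Ab] (B ⧸ J)}

include hsmul in
/-- The kernel is killed by the ideal. -/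
theorem mul_eq_zero (h : IsFlatLift φ ρ) {d : D} (hd : ρ d = 0) (m : J) : d * φ m = 0 := by
  have hd' : d ∈ J.map φ := h.ker_eq ▸ hd
  clear hd
  rw [Ideal.map] at hd'
  induction hd' using Submodule.span_induction with
  | mem x hx =>
    obtain ⟨j, hj, rfl⟩ := hx
    have := hsmul j m
    rw [Ideal.Quotient.eq_zero_iff_mem.2 hj, zero_smul] at this
    rw [← map_mul, ← this]
    simp
  | zero => simp
  | add x y _ _ hx hy => rw [add_mul, hx, hy, add_zero]
  | smul a x _ hx => rw [smul_eq_mul, mul_assoc, hx, mul_zero]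

include hsmul in
/-- Scalars of the base pass through lifts. -/
theorem lift_smul (h : IsFlatLift φ ρ) (r : Ab) {e : E} {d d' : D} (hd : ρ d = e ⊗ₜ 1) (hd' : ρ d' = (r • e) ⊗ₜ 1)
    (m : J) : d' * φ m = d * φ (r • m : J) := by
  obtain ⟨br, hbr⟩ := Ideal.Quotient.mk_surjective (algebraMap Ab (B ⧸ J) r)
  have hr : ((r • m : J) : B) = br * m := by
    rw [← hsmul, hbr, algebraMap_smul]
  rw [hr, map_mul, ← mul_assoc, ← sub_eq_zero, ← sub_mul]
  refine mul_eq_zero hsmul h ?_ m
  rw [map_sub, map_mul, h.comp, hd, hd', hbr, Algebra.TensorProduct.tmul_mul_tmul, mul_one, one_mul,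
    Algebra.algebraMap_eq_smul_one, tmul_smul, smul_tmul', sub_self]

/-- The map `E ⊗ J → D`. -/
noncomputable def Θ (h : IsFlatLift φ ρ) : E ⊗[Ab] J →+ D :=
  TensorProduct.liftAddHom
    (AddMonoidHom.mk' (fun e => AddMonoidHom.mk' (fun m : J => Classical.choose (h.surj (e ⊗ₜ 1)) * φ m)
        fun m m' => by simp [mul_add])
      fun e e' => AddMonoidHom.ext fun m => by
        change _ * φ m = _ * φ m + _ * φ m
        rw [← add_mul, ← sub_eq_zero, ← sub_mul]
        refine mul_eq_zero hsmul h ?_ m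
        rw [map_sub, map_add, Classical.choose_spec (h.surj ((e + e') ⊗ₜ 1)),
          Classical.choose_spec (h.surj (e ⊗ₜ 1)), Classical.choose_spec (h.surj (e' ⊗ₜ 1)), add_tmul, sub_self])
    fun r e m => lift_smul hsmul h r (Classical.choose_spec (h.surj _)) (Classical.choose_spec (h.surj _)) m

theorem Θ_tmul (h : IsFlatLift φ ρ) {e : E} {d : D} (hd : ρ d = e ⊗ₜ 1) (m : J) :
    Θ hsmul h (e ⊗ₜ m) = d * φ m := by
  rw [← sub_eq_zero]
  change Classical.choose (h.surj (e ⊗ₜ 1)) * φ m - d * φ m = 0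
  rw [← sub_mul]
  exact mul_eq_zero hsmul h (by rw [map_sub, Classical.choose_spec (h.surj (e ⊗ₜ 1)), hd, sub_self]) m

include hsmul in
theorem exists_Θ_eq (h : IsFlatLift φ ρ) {y : D} (hy : ρ y = 0) : ∃ x, Θ hsmul h x = y := by
  have key : ∀ (z : E ⊗[Ab] (B ⧸ J)) (m : J), ∀ d, ρ d = z → ∃ x, Θ hsmul h x = d * φ m := by
    intro z m
    induction z using TensorProduct.induction_on with
    | zero => exact fun d hd => ⟨0, by rw [map_zero, mul_eq_zero hsmul h hd]⟩
    | tmul e bb =>
      intro d hd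
      obtain ⟨b, rfl⟩ := Ideal.Quotient.mk_surjective bb
      obtain ⟨d₁, hd₁⟩ := h.surj (e ⊗ₜ 1)
      refine ⟨e ⊗ₜ (Ideal.Quotient.mk J b • m), ?_⟩
      rw [Θ_tmul hsmul h hd₁, hsmul, map_mul, ← mul_assoc, ← sub_eq_zero, ← sub_mul]
      refine mul_eq_zero hsmul h ?_ m
      rw [map_sub, map_mul, h.comp, hd₁, hd, Algebra.TensorProduct.tmul_mul_tmul, mul_one, one_mul, sub_self]
    | add z₁ z₂ h₁ h₂ =>
      intro d hd
      obtain ⟨d₁, hd₁⟩ := h.surj z₁
      obtain ⟨x₁, hx₁⟩ := h₁ d₁ hd₁
      obtain ⟨x₂, hx₂⟩ := h₂ (d - d₁) (by rw [map_sub, hd, hd₁, add_sub_cancel_left])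
      exact ⟨x₁ + x₂, by rw [map_add, hx₁, hx₂, ← add_mul, add_sub_cancel]⟩
  have hy' : y ∈ J.map φ := h.ker_eq ▸ hy
  clear hy
  rw [Ideal.map] at hy'
  suffices ∀ c : D, ∃ x, Θ hsmul h x = c * y by simpa using this 1
  induction hy' using Submodule.span_induction with
  | mem x hx =>
    intro c
    obtain ⟨j, hj, rfl⟩ := hx
    exact key (ρ c) ⟨j, hj⟩ c rfl
  | zero => exact fun c => ⟨0, by simp⟩
  | add x y _ _ hx hy' =>
    intro c
    obtain ⟨a, ha⟩ := hx c
    obtain ⟨b, hb⟩ := hy' c
    exact ⟨a + b, by rw [map_add, ha, hb, mul_add]⟩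
  | smul a x _ hx =>
    intro c
    obtain ⟨b, hb⟩ := hx (c * a)
    exact ⟨b, by rw [hb, smul_eq_mul, mul_assoc]⟩

include hsmul in
theorem Θ_injective (h : IsFlatLift φ ρ) : Function.Injective (Θ hsmul h) := by
  let _ := φ.toAlgebra
  have : Module.Flat B D := h.flat
  -- the map into the tensor product
  have hz : ∀ {d : D}, ρ d = 0 → ∀ m : J, d ⊗ₜ[B] m = 0 := by
    intro d hd m
    have hd' : d ∈ J.map φ := h.ker_eq ▸ hd
    clear hd
    rw [Ideal.map] at hd'
    induction hd' using Submodule.span_induction generalizing m with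
    | mem x hx =>
      obtain ⟨j, hj, rfl⟩ := hx
      have h0 : j • m = 0 := Subtype.ext (by
        change j * (m : B) = 0
        rw [← hsmul j m, Ideal.Quotient.eq_zero_iff_mem.2 hj, zero_smul]; rfl)
      rw [show φ j = j • (1 : D) by rw [Algebra.smul_def, mul_one]; rfl, smul_tmul, h0, tmul_zero]
    | zero => rw [zero_tmul]
    | add x y _ _ hx hy => rw [add_tmul, hx m, hy m, add_zero]
    | smul a x hxs hx =>
      have := congrArg (LinearMap.rTensor J (LinearMap.mulLeft B a)) (hx m)
      simpa using this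
  let T : E ⊗[Ab] J →+ D ⊗[B] J := TensorProduct.liftAddHom
    (AddMonoidHom.mk' (fun e => AddMonoidHom.mk' (fun m : J => Classical.choose (h.surj (e ⊗ₜ 1)) ⊗ₜ[B] m)
        fun m m' => by simp [tmul_add])
      fun e e' => AddMonoidHom.ext fun m => by
        change _ ⊗ₜ[B] m = _ ⊗ₜ[B] m + _ ⊗ₜ[B] m
        rw [← add_tmul, ← sub_eq_zero, ← sub_tmul]
        refine hz ?_ m
        rw [map_sub, map_add, Classical.choose_spec (h.surj ((e + e') ⊗ₜ 1)),
          Classical.choose_spec (h.surj (e ⊗ₜ 1)), Classical.choose_spec (h.surj (e' ⊗ₜ 1)), add_tmul, sub_self])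
    fun r e m => by
      obtain ⟨br, hbr⟩ := Ideal.Quotient.mk_surjective (algebraMap Ab (B ⧸ J) r)
      have hr : (r • m : J) = br • m := Subtype.ext (by
        change ((r • m : J) : B) = br * m
        rw [← hsmul, hbr, algebraMap_smul])
      change _ ⊗ₜ[B] m = _ ⊗ₜ[B] (r • m : J)
      rw [hr, ← smul_tmul, ← sub_eq_zero, ← sub_tmul]
      refine hz ?_ m
      rw [map_sub, Algebra.smul_def (A := D), map_mul, RingHom.algebraMap_toAlgebra, h.comp,
        Classical.choose_spec (h.surj ((r • e) ⊗ₜ 1)), Classical.choose_spec (h.surj (e ⊗ₜ 1)), hbr,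
        Algebra.TensorProduct.tmul_mul_tmul, mul_one, one_mul, Algebra.algebraMap_eq_smul_one, tmul_smul,
        smul_tmul', sub_self]
  -- a left inverse
  let act : J →+ (B ⧸ J) →ₗ[Ab] J := AddMonoidHom.mk' (fun m =>
    (LinearMap.toSpanSingleton (B ⧸ J) J m).restrictScalars Ab) fun m m' => LinearMap.ext fun x => smul_add x m m'
  let Γ : D ⊗[B] J →+ E ⊗[Ab] J := TensorProduct.liftAddHom
    (AddMonoidHom.mk' (fun d => AddMonoidHom.mk' (fun m : J => LinearMap.lTensor E (act m) (ρ d))
        fun m m' => by rw [map_add, LinearMap.lTensor_add]; rfl)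
      fun d d' => AddMonoidHom.ext fun m => by
        change LinearMap.lTensor E (act m) (ρ (d + d')) = _
        rw [map_add, map_add]; rfl)
    fun b d m => by
      change LinearMap.lTensor E (act m) (ρ (b • d)) = LinearMap.lTensor E (act (b • m)) (ρ d)
      rw [Algebra.smul_def, map_mul, RingHom.algebraMap_toAlgebra, h.comp]
      generalize ρ d = z
      induction z using TensorProduct.induction_on with
      | zero => simp
      | tmul e x =>
        obtain ⟨x, rfl⟩ := Ideal.Quotient.mk_surjective x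
        rw [Algebra.TensorProduct.tmul_mul_tmul, one_mul, LinearMap.lTensor_tmul, LinearMap.lTensor_tmul]
        congr 1
        refine Subtype.ext ?_
        change ((Ideal.Quotient.mk J b * Ideal.Quotient.mk J x) • m : J).1 = (Ideal.Quotient.mk J x • (b • m) : J).1
        rw [← map_mul, hsmul, hsmul]
        change b * x * m.1 = x * (b * m.1)
        ring
      | add z₁ z₂ h₁ h₂ => simp only [mul_add, map_add, h₁, h₂]
  have hΓ : ∀ x, Γ (T x) = x := by
    intro x
    induction x using TensorProduct.induction_on with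
    | zero => simp
    | tmul e m =>
      change LinearMap.lTensor E (act m) (ρ (Classical.choose (h.surj (e ⊗ₜ 1)))) = _
      rw [Classical.choose_spec (h.surj (e ⊗ₜ 1)), LinearMap.lTensor_tmul]
      congr 1
      exact one_smul _ m
    | add a b ha hb => rw [map_add, map_add, ha, hb]
  have hinj : Function.Injective (TensorProduct.rid B D ∘ (J.subtype).lTensor D) :=
    (TensorProduct.rid B D).injective.comp
      (Module.Flat.lTensor_preserves_injective_linearMap _ J.injective_subtype)
  have hcomp : ∀ x, TensorProduct.rid B D ((J.subtype).lTensor D (T x)) = Θ hsmul h x := by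
    intro x
    induction x using TensorProduct.induction_on with
    | zero => simp
    | tmul e m =>
      change TensorProduct.rid B D ((J.subtype).lTensor D (Classical.choose (h.surj (e ⊗ₜ 1)) ⊗ₜ[B] m)) = _
      rw [LinearMap.lTensor_tmul, TensorProduct.rid_tmul, Algebra.smul_def, RingHom.algebraMap_toAlgebra, mul_comm,
        Θ_tmul hsmul h (Classical.choose_spec (h.surj (e ⊗ₜ 1)))]
      rfl
    | add a b ha hb => simp only [map_add, ha, hb]
  intro x y hxy
  rw [← hΓ x, ← hΓ y]
  congr 1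
  exact hinj (by simp only [Function.comp_apply, hcomp, hxy])

end Groth.Agent.AlgSpB.SqZero
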